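import Mathlib

set_option autoImplicit false

namespace Cfsg.Lib.X18

open Module

/-! Linear algebra on an eight-dimensional quadratic space over the field of two elements. -/

variable {Γ V : Type*} [Group Γ] [AddCommGroup V] [Module (ZMod 2) V]

theorem c2 {a b : V} (h : (1 : ZMod 2) • a = (1 : ZMod 2) • b) : a = b := by simpa using h

theorem vv (v : V) : v + v = 0 := by apply c2; match_scalars; decide

theorem add_eq_zero' {u v : V} : u + v = 0 ↔ u = v :=
  ⟨fun h => by linear_combination (norm := (apply c2; match_scalars <;> decide)) h, fun h => h ▸ vv u⟩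

theorem z2 (c : ZMod 2) : c = 0 ∨ c = 1 := by revert c; decide

variable (σ : Γ →* Module.End (ZMod 2) V)

theorem σm (g h : Γ) (v : V) : σ (g * h) v = σ g (σ h v) := by rw [map_mul]; rfl

theorem σ1 (v : V) : σ 1 v = v := by rw [map_one]; rfl

theorem σli (g : Γ) (v : V) : σ g⁻¹ (σ g v) = v := by rw [← σm, inv_mul_cancel, σ1]

theorem σri (g : Γ) (v : V) : σ g (σ g⁻¹ v) = v := by rw [← σm, mul_inv_cancel, σ1]

theorem σinj (g : Γ) : Function.Injective (σ g) := fun u v h => by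
  rw [← σli σ g u, h, σli]

theorem σ_eq_zero {g : Γ} {v : V} : σ g v = 0 ↔ v = 0 :=
  ⟨fun h => σinj σ g (by rw [h, map_zero]), fun h => by rw [h, map_zero]⟩

theorem σc {g h : Γ} (e : g * h = h * g) (v : V) : σ g (σ h v) = σ h (σ g v) := by
  rw [← σm, e, σm]

/-- The stabilizer of a vector. -/
def St (v : V) : Subgroup Γ where
  carrier := {g | σ g v = v}
  mul_mem' := fun {a b} ha hb => by
    show σ (a * b) v = v
    rw [σm, hb, ha]
  one_mem' := σ1 σ v
  inv_mem' := fun {a} ha => by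
    show σ a⁻¹ v = v
    conv_lhs => rw [← ha]
    exact σli σ a v

theorem mem_St {v : V} {g : Γ} : g ∈ St σ v ↔ σ g v = v := Iff.rfl

/-- The fixed space of an element. -/
def Fx (g : Γ) : Submodule (ZMod 2) V := LinearMap.ker (σ g + 1)

/-- The commutator space of an element. -/
def Cm (g : Γ) : Submodule (ZMod 2) V := LinearMap.range (σ g + 1)

theorem mem_Fx {v : V} {g : Γ} : v ∈ Fx σ g ↔ σ g v = v := by
  rw [Fx, LinearMap.mem_ker, LinearMap.add_apply, Module.End.one_apply, add_eq_zero']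

theorem mem_Cm {v : V} {g : Γ} : v ∈ Cm σ g ↔ ∃ w, σ g w + w = v := Iff.rfl

theorem fix_of_sq {g : Γ} {v : V} {n : ℕ} (hg : g ^ (2 * n + 1) = 1) (h : σ g (σ g v) = v) :
    σ g v = v := by
  have h1 : g * g ∈ St σ v := by rw [mem_St, σm, h]
  have h2 := (St σ v).pow_mem h1 (n + 1)
  rwa [← pow_two, ← pow_mul, show 2 * (n + 1) = 2 * n + 1 + 1 by ring, pow_succ, hg, one_mul] at h2

theorem fix_of_comm {g : Γ} {v : V} {n : ℕ} (hg : g ^ (2 * n + 1) = 1)
    (h : σ g (σ g v + v) = σ g v + v) : σ g v = v := by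
  refine fix_of_sq σ hg ?_
  rw [map_add] at h
  linear_combination (norm := (apply c2; match_scalars <;> decide)) h

theorem three_sum {ρ : Γ} (h3 : ρ ^ 3 = 1) (hf : ∀ v, σ ρ v = v → v = 0) (v : V) :
    σ ρ (σ ρ v) = v + σ ρ v := by
  have h1 : σ ρ (σ ρ (σ ρ v)) = v := by rw [← σm, ← σm, ← pow_two, ← pow_succ, h3, σ1]
  have := hf (v + σ ρ v + σ ρ (σ ρ v)) (by rw [map_add, map_add, h1]; abel)
  linear_combination (norm := (apply c2; match_scalars <;> decide)) this

variable [Finite V]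

theorem card_sub (U : Submodule (ZMod 2) V) : Nat.card U = 2 ^ finrank (ZMod 2) U := by
  rw [Module.natCard_eq_pow_finrank (K := ZMod 2), Nat.card_zmod]

theorem finrank_five {y : Γ} (h5 : y ^ 5 = 1) {U : Submodule (ZMod 2) V} (hU : ∀ v ∈ U, σ y v ∈ U)
    (hf : ∀ v ∈ U, σ y v = v → v = 0) : 4 ∣ finrank (ZMod 2) U := by
  classical
  have : Fact (Nat.Prime 5) := ⟨by norm_num⟩
  have := Fintype.ofFinite U
  let f : Function.End U := fun u => ⟨σ y u, hU u u.2⟩
  have h1 : f ^ 5 ^ 1 = 1 := by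
    funext u
    apply Subtype.ext
    show σ y (σ y (σ y (σ y (σ y u)))) = u
    rw [← σm, ← σm, ← σm, ← σm, show y * y * y * y * y = y ^ 5 by simp [pow_succ], h5, σ1]
  have h2 := Equiv.Perm.card_fixedPoints_modEq h1
  have h3 : Fintype.card f.fixedPoints = 1 := by
    rw [Fintype.card_eq_one_iff]
    refine ⟨⟨0, Subtype.ext (map_zero _)⟩, fun u => Subtype.ext (Subtype.ext ?_)⟩
    exact hf _ u.1.2 (congrArg Subtype.val u.2)
  rw [h3, ← Nat.card_eq_fintype_card, card_sub] at h2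
  generalize finrank (ZMod 2) U = n at h2
  rw [← Nat.div_add_mod n 4, pow_add, pow_mul] at h2
  have h4 : ((2 ^ 4) ^ (n / 4) * 2 ^ (n % 4)) ≡ 1 ^ (n / 4) * 2 ^ (n % 4) [MOD 5] :=
    Nat.ModEq.mul_right _ (Nat.ModEq.pow _ (by decide))
  have h5 := h4.symm.trans h2
  rw [one_pow, one_mul] at h5
  have h6 : n % 4 < 4 := Nat.mod_lt _ (by norm_num)
  refine Nat.dvd_of_mod_eq_zero ?_
  generalize n % 4 = m at h5 h6
  interval_cases m
  · rfl
  all_goals exact absurd h5 (by decide)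

/-- The invariant quadratic form. -/
structure QF (q : V → ZMod 2) (B : V →ₗ[ZMod 2] V →ₗ[ZMod 2] ZMod 2) : Prop where
  add : ∀ u v, q (u + v) = q u + q v + B u v
  nd : ∀ u, (∀ v, B u v = 0) → u = 0
  inv : ∀ (g : Γ) v, q (σ g v) = q v
  faith : ∀ g : Γ, (∀ v : V, σ g v = v) → g = 1
  dim : finrank (ZMod 2) V = 8

variable {σ} {q : V → ZMod 2} {B : V →ₗ[ZMod 2] V →ₗ[ZMod 2] ZMod 2}

omit [Finite V] in
theorem QF.zero (h : QF σ q B) : q 0 = 0 := by
  have := h.add 0 0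
  rw [add_zero, map_zero] at this
  generalize q 0 = c at this
  revert c; decide

omit [Finite V] in
theorem QF.self (h : QF σ q B) (v : V) : B v v = 0 := by
  have := h.add v v
  rw [vv, h.zero] at this
  generalize q v = c at this
  generalize B v v = d at this
  revert c d; decide

omit [Finite V] in
theorem QF.symm (h : QF σ q B) (u v : V) : B u v = B v u := by
  have h1 := h.add u v
  rw [add_comm, h.add] at h1
  linear_combination -h1

omit [Finite V] in
theorem QF.binv (h : QF σ q B) (g : Γ) (u v : V) : B (σ g u) (σ g v) = B u v := by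
  have h1 := h.inv g (u + v)
  rw [map_add, h.add, h.add, h.inv, h.inv] at h1
  linear_combination h1

omit [Finite V] in
theorem QF.adj (h : QF σ q B) (g : Γ) (u v : V) : B (σ g u) v = B u (σ g⁻¹ v) := by
  rw [← h.binv g u, σri]

omit [Finite V] in
theorem QF.perp_of_sing (h : QF σ q B) {u v : V} (hu : q u = 0) (hv : q v = 0) (huv : q (u + v) = 0) :
    B u v = 0 := by
  rw [h.add, hu, hv] at huv
  simpa using huv

omit [Finite V] in
theorem QF.fix_of_perp (h : QF σ q B) {g : Γ} {v : V} (hv : ∀ w, B v (σ g w + w) = 0) : σ g v = v := by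
  rw [← add_eq_zero']
  refine h.nd _ fun w => ?_
  have := hv (σ g⁻¹ w)
  rw [σri, map_add] at this
  rw [map_add, LinearMap.add_apply, h.adj, add_comm, this]

omit [Finite V] in
theorem QF.perp_of_fix (h : QF σ q B) {g : Γ} {v : V} (hv : σ g v = v) (w : V) : B v (σ g w + w) = 0 := by
  rw [map_add]
  conv_lhs => rw [← hv, h.binv, hv]
  exact vv _

theorem QF.finrank_le_four (h : QF σ q B) {D : Submodule (ZMod 2) V} (hD : ∀ v ∈ D, q v = 0) :
    finrank (ZMod 2) D ≤ 4 := by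
  have h1 : LinearMap.BilinForm.Nondegenerate B := ⟨h.nd, fun v hv => h.nd v fun w => by rw [h.symm, hv]⟩
  have h2 := LinearMap.BilinForm.finrank_orthogonal h1 D
  have h3 : D ≤ LinearMap.BilinForm.orthogonal B D := fun v hv w hw =>
    h.perp_of_sing (hD w hw) (hD v hv) (hD _ (D.add_mem hw hv))
  have h4 := Submodule.finrank_mono h3
  rw [h.dim] at h2
  omega

/-- An involution acting freely. -/
structure Free (σ : Γ →* Module.End (ZMod 2) V) (x : Γ) : Prop where
  dim : finrank (ZMod 2) (Fx σ x) = 4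
  rng : ∀ v, σ x v = v → ∃ w, σ x w + w = v

theorem QF.free (h : QF σ q B) {r g : Γ} (hr : r * r = 1) (e : r * g = g⁻¹ * r)
    (hf : ∀ v, σ g (σ g v) = v → v = 0) : Free σ r := by
  have h1 := Submodule.finrank_sup_add_finrank_inf_eq ((Fx σ r).map (σ g)) (Fx σ r)
  have h2 : (Fx σ r).map (σ g) ⊓ Fx σ r = ⊥ := by
    rw [eq_bot_iff]
    rintro _ ⟨⟨u, hu, rfl⟩, h3⟩
    rw [SetLike.mem_coe, mem_Fx] at hu h3
    rw [← σm, e, σm, hu] at h3
    rw [Submodule.mem_bot, σ_eq_zero]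
    refine hf u ?_
    rw [← h3, σri]
  have h3 : finrank (ZMod 2) ((Fx σ r).map (σ g)) = finrank (ZMod 2) (Fx σ r) :=
    (Submodule.equivMapOfInjective _ (σinj σ g) _).finrank_eq.symm
  have h4 := Submodule.finrank_le ((Fx σ r).map (σ g) ⊔ Fx σ r)
  have h5 : finrank (ZMod 2) (Cm σ r) + finrank (ZMod 2) (Fx σ r) = _ :=
    LinearMap.finrank_range_add_finrank_ker (σ r + 1)
  have h6 : Cm σ r ≤ Fx σ r := by
    rintro _ ⟨w, rfl⟩
    rw [mem_Fx]
    show σ r (σ r w + w) = σ r w + w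
    rw [map_add, ← σm, hr, σ1, add_comm]
  have h7 := Submodule.finrank_mono h6
  rw [h2, finrank_bot, h3] at h1
  rw [h.dim] at h4 h5
  have h8 := Submodule.eq_of_le_of_finrank_le h6 (by omega)
  exact ⟨by omega, fun v hv => (mem_Cm σ).1 (h8 ▸ (mem_Fx σ).2 hv)⟩

omit [Finite V] in
theorem QF.eq_one_of_triv (h : QF σ q B) {x e : Γ} {n : ℕ} (he : e ^ (2 * n + 1) = 1)
    (hf : ∀ v, σ x v = v → σ e v = v) (hx2 : x * x = 1) : e = 1 := by
  refine h.faith e fun w => fix_of_comm σ he (hf _ (h.fix_of_perp fun u => ?_))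
  rw [h.symm]
  refine h.perp_of_fix (hf _ ?_) w
  rw [map_add, ← σm, hx2, σ1, add_comm]

theorem finrank_le_succ {P C : Submodule (ZMod 2) V}
    (h : ∀ u ∈ C, ∀ v ∈ C, u ∉ P → v ∉ P → u + v ∈ P) : finrank (ZMod 2) C ≤ finrank (ZMod 2) P + 1 := by
  by_cases h1 : C ≤ P
  · exact (Submodule.finrank_mono h1).trans (Nat.le_succ _)
  obtain ⟨u, hu, huP⟩ := SetLike.not_le_iff_exists.1 h1
  have h2 : C ≤ P ⊔ Submodule.span (ZMod 2) {u} := fun v hv => by
    by_cases h3 : v ∈ P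
    · exact Submodule.mem_sup_left h3
    · rw [show v = (u + v) + u by apply c2; match_scalars <;> decide]
      exact Submodule.add_mem_sup (h u hu v hv huP h3) (Submodule.mem_span_singleton_self u)
  have h3 := Submodule.finrank_add_le_finrank_add_finrank P (Submodule.span (ZMod 2) {u})
  have h4 := finrank_span_le_card (R := ZMod 2) ({u} : Set V)
  have h5 := Submodule.finrank_mono h2
  simp only [Set.toFinset_singleton, Finset.card_singleton] at h4
  omega

section five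

variable {y : Γ} {U : Submodule (ZMod 2) V}

omit [Finite V] in
theorem five_sum (h5 : y ^ 5 = 1) (hU : ∀ v ∈ U, σ y v ∈ U) (hf : ∀ v ∈ U, σ y v = v → v = 0) {u : V}
    (hu : u ∈ U) : σ y (σ y (σ y (σ y u))) = u + σ y u + σ y (σ y u) + σ y (σ y (σ y u)) := by
  have h1 : σ y (σ y (σ y (σ y (σ y u)))) = u := by
    rw [← σm, ← σm, ← σm, ← σm, show y * y * y * y * y = y ^ 5 by simp [pow_succ], h5, σ1]
  have u1 := hU _ hu
  have u2 := hU _ u1
  have u3 := hU _ u2
  have := hf (u + σ y u + σ y (σ y u) + σ y (σ y (σ y u)) + σ y (σ y (σ y (σ y u))))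
    (U.add_mem (U.add_mem (U.add_mem (U.add_mem hu u1) u2) u3) (hU _ u3))
    (by rw [map_add, map_add, map_add, map_add, h1]; abel)
  exact (add_eq_zero'.1 this).symm

theorem five_span (h5 : y ^ 5 = 1) (hU : ∀ v ∈ U, σ y v ∈ U) (hf : ∀ v ∈ U, σ y v = v → v = 0)
    (hd : finrank (ZMod 2) U = 4) {u : V} (hu : u ∈ U) (hu0 : u ≠ 0) {v : V} (hv : v ∈ U) :
    ∃ a b c d : ZMod 2, v = a • u + b • σ y u + c • σ y (σ y u) + d • σ y (σ y (σ y u)) := by
  have u1 := hU _ hu
  have u2 := hU _ u1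
  have u3 := hU _ u2
  let X : Submodule (ZMod 2) V :=
    { carrier := {v | ∃ a b c d : ZMod 2, v = a • u + b • σ y u + c • σ y (σ y u) + d • σ y (σ y (σ y u))}
      add_mem' := by
        rintro _ _ ⟨a, b, c, d, rfl⟩ ⟨a', b', c', d', rfl⟩
        exact ⟨a + a', b + b', c + c', d + d', by module⟩
      zero_mem' := ⟨0, 0, 0, 0, by simp⟩
      smul_mem' := by
        rintro e _ ⟨a, b, c, d, rfl⟩
        exact ⟨e * a, e * b, e * c, e * d, by module⟩ }
  have h1 : X ≤ U := by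
    rintro _ ⟨a, b, c, d, rfl⟩
    exact U.add_mem (U.add_mem (U.add_mem (U.smul_mem _ hu) (U.smul_mem _ u1)) (U.smul_mem _ u2))
      (U.smul_mem _ u3)
  have h2 : 4 ∣ finrank (ZMod 2) X := finrank_five σ h5 (by
    rintro _ ⟨a, b, c, d, rfl⟩
    refine ⟨d, a + d, b + d, c + d, ?_⟩
    rw [map_add, map_add, map_add, map_smul, map_smul, map_smul, map_smul, five_sum h5 hU hf hu]
    module) fun v hv => hf v (h1 hv)
  have h3 : finrank (ZMod 2) X ≠ 0 := fun h => hu0 (by
    rw [Submodule.finrank_eq_zero] at h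
    have : u ∈ X := ⟨1, 0, 0, 0, by simp⟩
    rwa [h, Submodule.mem_bot] at this)
  have h4 := Submodule.eq_of_le_of_finrank_le h1 (hd ▸ Nat.le_of_dvd (Nat.pos_of_ne_zero h3) h2)
  rw [← h4] at hv
  exact hv

omit [Finite V] in
theorem QF.five_gram (h : QF σ q B) (h5 : y ^ 5 = 1) (hU : ∀ v ∈ U, σ y v ∈ U)
    (hf : ∀ v ∈ U, σ y v = v → v = 0) {u : V} (hu : u ∈ U) :
    B u (σ y (σ y (σ y u))) = B u (σ y (σ y u)) ∧ q u = B u (σ y u) + B u (σ y (σ y u)) := by
  have h1 : σ y (σ y (σ y (σ y (σ y u)))) = u := by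
    rw [← σm, ← σm, ← σm, ← σm, show y * y * y * y * y = y ^ 5 by simp [pow_succ], h5, σ1]
  have h2 : B u (σ y (σ y (σ y u))) = B u (σ y (σ y u)) := by
    rw [← h.binv y, ← h.binv y, h1, h.symm]
  refine ⟨h2, ?_⟩
  have h3 := congrArg q (five_sum h5 hU hf hu)
  simp only [h.add, h.inv, map_add, LinearMap.add_apply, h.binv, h2] at h3
  generalize q u = a at h3
  generalize B u (σ y u) = b at h3
  generalize B u (σ y (σ y u)) = c at h3
  revert a b c; decide

theorem QF.five_plane (h : QF σ q B) (h5 : y ^ 5 = 1) (hU : ∀ v ∈ U, σ y v ∈ U)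
    (hf : ∀ v ∈ U, σ y v = v → v = 0) (hd : finrank (ZMod 2) U = 4)
    (nd : ∀ u ∈ U, (∀ v ∈ U, B u v = 0) → u = 0) {u : V} (hu : u ∈ U) (hu0 : u ≠ 0) (hq : q u = 0)
    {v : V} (hv : v ∈ U) (hqv : q v = 0) (huv : B u v = 0) : v = 0 ∨ v = u := by
  obtain ⟨h1, h2⟩ := h.five_gram h5 hU hf hu
  have h3 : B u (σ y u) = 1 := by
    refine (z2 _).resolve_left fun h3 => hu0 (nd u hu fun w hw => ?_)
    obtain ⟨a, b, c, d, rfl⟩ := five_span h5 hU hf hd hu hu0 hw
    rw [hq, h3, zero_add] at h2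
    simp [h.self, h1, h3, ← h2]
  have h4 : B u (σ y (σ y u)) = 1 := by
    rw [hq, h3] at h2
    generalize B u (σ y (σ y u)) = c at h2
    revert c; decide
  rw [h4] at h1
  obtain ⟨a, b, c, d, rfl⟩ := five_span h5 hU hf hd hu hu0 hv
  have h11 : (1 : ZMod 2) + 1 = 0 := by decide
  rcases z2 a with rfl | rfl <;> rcases z2 b with rfl | rfl <;> rcases z2 c with rfl | rfl <;>
    rcases z2 d with rfl | rfl <;>
    simp [h.add, h.inv, h.binv, h.self, h1, h3, h4, hq, h11] at hqv huv ⊢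

theorem QF.five_sing (h : QF σ q B) (h5 : y ^ 5 = 1) (hU : ∀ v ∈ U, σ y v ∈ U)
    (hf : ∀ v ∈ U, σ y v = v → v = 0) (hd : finrank (ZMod 2) U ≠ 0) : ∃ u ∈ U, u ≠ 0 ∧ q u = 0 := by
  rw [Ne, Submodule.finrank_eq_zero] at hd
  obtain ⟨u, hu, hu0⟩ := (Submodule.ne_bot_iff U).1 hd
  obtain ⟨-, h2⟩ := h.five_gram h5 hU hf hu
  rcases z2 (q u) with h3 | h3
  · exact ⟨u, hu, hu0, h3⟩
  rcases z2 (B u (σ y u)) with h4 | h4
  · refine ⟨u + σ y u, U.add_mem hu (hU _ hu), fun e => hu0 (hf u hu (add_eq_zero'.1 e).symm), ?_⟩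
    rw [h.add, h.inv, h3, h4]; decide
  · refine ⟨u + σ y (σ y u), U.add_mem hu (hU _ (hU _ hu)), fun e => hu0 (hf u hu
      (fix_of_sq σ (n := 2) h5 (add_eq_zero'.1 e).symm)), ?_⟩
    rw [h.add, h.inv, h.inv, h3]
    rw [h3, h4] at h2
    generalize B u (σ y (σ y u)) = c at h2
    revert c; decide

end five

section three

variable {ρ : Γ}

/-- The point spanned by `s` over the field of four elements. -/
def Pt (σ : Γ →* Module.End (ZMod 2) V) (ρ : Γ) (s v : V) : Prop :=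
  v = 0 ∨ v = s ∨ v = σ ρ s ∨ v = s + σ ρ s

omit [Finite V] in
theorem Pt.rho (h3 : ∀ v, σ ρ (σ ρ v) = v + σ ρ v) {s v : V} (h : Pt σ ρ s v) : Pt σ ρ s (σ ρ v) := by
  rcases h with rfl | rfl | rfl | rfl
  · exact Or.inl (map_zero _)
  · exact Or.inr (Or.inr (Or.inl rfl))
  · exact Or.inr (Or.inr (Or.inr (h3 s)))
  · refine Or.inr (Or.inl ?_)
    rw [map_add, h3]
    apply c2; match_scalars <;> decide

omit [Finite V] in
theorem Pt.add {s u v : V} (hu : Pt σ ρ s u) (hv : Pt σ ρ s v) : Pt σ ρ s (u + v) := by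
  have e1 : s + (s + σ ρ s) = σ ρ s := by apply c2; match_scalars <;> decide
  have e2 : σ ρ s + (s + σ ρ s) = s := by apply c2; match_scalars <;> decide
  have e3 : s + σ ρ s + s = σ ρ s := by apply c2; match_scalars <;> decide
  have e4 : s + σ ρ s + σ ρ s = s := by apply c2; match_scalars <;> decide
  have e5 : σ ρ s + s = s + σ ρ s := add_comm _ _
  unfold Pt
  rcases hu with rfl | rfl | rfl | rfl <;> rcases hv with rfl | hv | rfl | rfl <;>
    (try rw [hv]) <;> simp only [zero_add, add_zero, vv, e1, e2, e3, e4, e5, true_or, or_true]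

omit [Finite V] in
theorem Pt.of_rho (h3 : ∀ v, σ ρ (σ ρ v) = v + σ ρ v) {s v : V} (h : Pt σ ρ s (σ ρ v)) : Pt σ ρ s v := by
  have := (h.rho h3).add h
  rwa [h3, add_assoc, vv, add_zero] at this

omit [Finite V] in
theorem Pt.mem {s v : V} (h : Pt σ ρ s v) {C : Submodule (ZMod 2) V} (h1 : s ∈ C) (h2 : σ ρ s ∈ C) : v ∈ C := by
  rcases h with rfl | rfl | rfl | rfl
  exacts [C.zero_mem, h1, h2, C.add_mem h1 h2]

omit [Finite V] in
theorem Pt.symm (h3 : ∀ v, σ ρ (σ ρ v) = v + σ ρ v) {s v : V} (h : Pt σ ρ s v) (hv : v ≠ 0) : Pt σ ρ v s := by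
  rcases h with rfl | rfl | rfl | rfl
  · exact absurd rfl hv
  · exact Or.inr (Or.inl rfl)
  · refine Or.inr (Or.inr (Or.inr ?_))
    rw [h3]
    apply c2; match_scalars <;> decide
  · refine Or.inr (Or.inr (Or.inl ?_))
    rw [map_add, h3]
    apply c2; match_scalars <;> decide

theorem span_four (h3 : ∀ v, σ ρ (σ ρ v) = v + σ ρ v) {L : Submodule (ZMod 2) V}
    (hL : finrank (ZMod 2) L = 4) (hρ : ∀ v ∈ L, σ ρ v ∈ L) {s u : V} (hs : s ∈ L) (hs0 : s ≠ 0) (hu : u ∈ L)
    (hup : ¬ Pt σ ρ s u) {v : V} (hv : v ∈ L) : ∃ a b, Pt σ ρ s a ∧ Pt σ ρ u b ∧ v = a + b := by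
  classical
  have hf : ∀ v, σ ρ v = v → v = 0 := fun v hv => by
    have := h3 v
    rw [hv, hv, vv] at this
    exact this
  let F : Fin 4 → V → V := fun i v => ![0, v, σ ρ v, v + σ ρ v] i
  have hF : ∀ i v, Pt σ ρ v (F i v) := fun i v => by
    fin_cases i
    exacts [Or.inl rfl, Or.inr (Or.inl rfl), Or.inr (Or.inr (Or.inl rfl)), Or.inr (Or.inr (Or.inr rfl))]
  have hinj : ∀ v, v ≠ 0 → ∀ i j, F i v = F j v → i = j := fun v hv i j => by
    have e1 : σ ρ v ≠ 0 := fun e => hv ((σ_eq_zero σ).1 e)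
    have e2 : σ ρ v ≠ v := fun e => hv (hf v e)
    have e3 : v + σ ρ v ≠ 0 := fun e => e2 (add_eq_zero'.1 e).symm
    fin_cases i <;> fin_cases j <;> simp [F, hv, hv.symm, e1, e1.symm, e2, e2.symm, e3, e3.symm]
  have hu0 : u ≠ 0 := fun e => hup (Or.inl e)
  let f : Fin 4 × Fin 4 → L := fun i => ⟨F i.1 s + F i.2 u,
    L.add_mem ((hF _ _).mem hs (hρ s hs)) ((hF _ _).mem hu (hρ u hu))⟩
  have h1 : Function.Injective f := by
    rintro ⟨i, j⟩ ⟨i', j'⟩ e
    have e1 : F i s + F j u = F i' s + F j' u := congrArg Subtype.val e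
    have e2 : F j u + F j' u = F i s + F i' s := by
      linear_combination (norm := (apply c2; match_scalars <;> decide)) e1
    have e3 : F j u + F j' u = 0 := by
      by_contra e3
      have e4 := ((hF j u).add (hF j' u)).symm h3 e3
      have e5 : Pt σ ρ s (F j u + F j' u) := e2 ▸ (hF i s).add (hF i' s)
      apply hup
      rcases e4 with e4 | e4 | e4 | e4 <;> rw [e4]
      exacts [Or.inl rfl, e5, e5.rho h3, e5.add (e5.rho h3)]
    rw [e3, eq_comm, add_eq_zero'] at e2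
    rw [add_eq_zero'] at e3
    rw [hinj s hs0 _ _ e2, hinj u hu0 _ _ e3]
  have h2 := (Function.Injective.bijective_of_nat_card_le h1 (by rw [card_sub, hL]; simp)).2
  obtain ⟨i, hi⟩ := h2 ⟨v, hv⟩
  exact ⟨_, _, hF _ _, hF _ _, (congrArg Subtype.val hi).symm⟩

theorem exists_not_pt {L : Submodule (ZMod 2) V} (hL : finrank (ZMod 2) L = 4) (s : V) :
    ∃ u ∈ L, ¬ Pt σ ρ s u := by
  by_contra hc
  push Not at hc
  have h1 : L ≤ Submodule.span (ZMod 2) {s, σ ρ s} := fun v hv =>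
    (hc v hv).mem (Submodule.subset_span (by simp)) (Submodule.subset_span (by simp))
  have h2 := Submodule.finrank_mono h1
  classical
  have h3 := finrank_span_le_card (R := ZMod 2) ({s, σ ρ s} : Set V)
  have h4 : ({s, σ ρ s} : Set V).toFinset.card ≤ 2 := by
    rw [Set.toFinset_insert, Set.toFinset_singleton]
    exact Finset.card_le_two
  omega

end three

end Cfsg.Lib.X18
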