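import Mathlib

set_option autoImplicit false

namespace Cfsg.Lib.X18

open Equiv Equiv.Perm

/-! Facts on subgroups of `S₃ × S₆` containing `A₃ × A₆`. -/

variable {Γ : Type*} [Group Γ]

/-- `Γ` embeds in `S₃ × S₆` with image containing `A₃ × A₆`. -/
structure Emb (f : Γ →* Perm (Fin 3)) (ψ : Γ →* Perm (Fin 6)) : Prop where
  inj : ∀ g, f g = 1 → ψ g = 1 → g = 1
  surj : ∀ a b, sign a = 1 → sign b = 1 → ∃ g, f g = a ∧ ψ g = b

/-- `θ` permutes the involutions of the four-group generated by `x`, `a` cyclically. -/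
structure Half (f : Γ →* Perm (Fin 3)) (x a θ : Γ) : Prop where
  fa : f a = 1
  fθ : f θ = 1
  aa : a * a = 1
  ax : a * x = x * a
  θx : θ * x * θ⁻¹ = a
  θa : θ * a * θ⁻¹ = x * a

/-- The relation between the two four-groups. -/
structure Cross (x a b η : Γ) : Prop where
  nb : ¬ (b = 1 ∨ b = x ∨ b = a ∨ b = x * a)
  int : ∀ u, (u = x ∨ u = a ∨ u = x * a) → ¬ (η⁻¹ * u * η = x ∨ η⁻¹ * u * η = a ∨ η⁻¹ * u * η = x * a)

variable {f : Γ →* Perm (Fin 3)} {ψ : Γ →* Perm (Fin 6)}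

theorem Emb.ext (h : Emb f ψ) {a b : Γ} (h1 : f a = f b) (h2 : ψ a = ψ b) : a = b := by
  rw [← mul_inv_eq_one]
  exact h.inj _ (by rw [map_mul, map_inv, h1, mul_inv_cancel]) (by rw [map_mul, map_inv, h2, mul_inv_cancel])

theorem s3_a : ∀ a : Perm (Fin 3), a * a = 1 → sign a = 1 → a = 1 := by decide

theorem s3_b : ∀ a r : Perm (Fin 3), sign a = 1 → sign r ≠ 1 →
    (r⁻¹ * (a * r * a⁻¹)) * (r⁻¹ * (a * r * a⁻¹)) = 1 → a = 1 := by decide +kernel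

theorem s3_c : ∀ a : Perm (Fin 3), (sign a = 1 → swap 0 1 * swap 1 2 * a = a * (swap 0 1 * swap 1 2)) ∧
    (sign a ≠ 1 → a * (swap 0 1 * swap 1 2) = (swap 0 1 * swap 1 2)⁻¹ * a) := by decide

theorem s3_d : ∀ a : Perm (Fin 3), sign a = 1 → a = 1 ∨ a = swap 0 1 * swap 1 2 ∨
    a = swap 0 1 * swap 1 2 * (swap 0 1 * swap 1 2) := by decide

theorem Emb.exists_rho (h : Emb f ψ) : ∃ ρ : Γ, ρ ^ 3 = 1 ∧ sign (f ρ) = 1 ∧ f ρ ≠ 1 ∧
    (∀ g, sign (f g) = 1 → ρ * g = g * ρ) ∧ ∀ g, sign (f g) ≠ 1 → g * ρ = ρ⁻¹ * g := by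
  obtain ⟨ρ, h1, h2⟩ := h.surj (swap 0 1 * swap 1 2) 1 (by decide) (map_one _)
  refine ⟨ρ, h.inj _ (by rw [map_pow, h1]; decide) (by rw [map_pow, h2, one_pow]), by rw [h1]; decide,
    by rw [h1]; decide, fun g hg => h.ext ?_ ?_, fun g hg => h.ext ?_ ?_⟩
  · rw [map_mul, map_mul, h1]; exact (s3_c _).1 hg
  · simp [h2]
  · rw [map_mul, map_mul, map_inv, h1]; exact (s3_c _).2 hg
  · simp [h2]

theorem exists_ker {A : Type*} [Group A] [Finite A] (φ : Γ →* A) {R : Subgroup Γ}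
    (hR : Nat.card A < Nat.card R) : ∃ x ∈ R, x ≠ 1 ∧ φ x = 1 := by
  by_contra hc
  push Not at hc
  have : Function.Injective (φ.comp R.subtype) := (injective_iff_map_eq_one _).2 fun x hx => by
    by_contra h
    exact hc x x.2 (fun e => h (Subtype.ext e)) hx
  exact absurd (Nat.card_le_card_of_injective _ this) (by omega)

theorem five_le [Finite Γ] {H : Subgroup Γ} {x a u : Γ} (hx : x ∈ H) (ha : a ∈ H) (hu : u ∈ H) (x1 : x ≠ 1)
    (a1 : a ≠ 1) (xa : x ≠ a) (xa1 : x * a ≠ 1) (h : ¬ (u = 1 ∨ u = x ∨ u = a ∨ u = x * a)) :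
    5 ≤ Nat.card H := by
  classical
  push Not at h
  have h1 : ({u, 1, x, a, x * a} : Finset Γ).card = 5 := by
    rw [Finset.card_insert_of_notMem (by simp [h]), Finset.card_insert_of_notMem
      (by simp [x1.symm, a1.symm, xa1.symm]), Finset.card_insert_of_notMem (by simp [xa, a1]),
      Finset.card_pair (by simp [x1])]
  rw [← h1, ← Set.ncard_coe_finset, ← SetLike.coe_sort_coe, Nat.card_coe_set_eq]
  refine Set.ncard_le_ncard fun g hg => ?_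
  simp only [Finset.coe_insert, Finset.coe_singleton, Set.mem_insert_iff, Set.mem_singleton_iff] at hg
  rcases hg with rfl | rfl | rfl | rfl | rfl
  exacts [hu, H.one_mem, hx, ha, H.mul_mem hx ha]

theorem s6_elem {P : Subgroup (Perm (Fin 6))} (hP : ∀ g ∈ P, g * g = 1) : Nat.card P ≤ 8 := by
  have : Fact (Nat.Prime 2) := ⟨Nat.prime_two⟩
  have h1 : IsPGroup 2 P := fun g => ⟨1, Subtype.ext (by simpa [pow_two] using hP g g.2)⟩
  obtain ⟨n, hn⟩ := IsPGroup.iff_card.1 h1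
  obtain ⟨S, hS⟩ := h1.exists_le_sylow
  have h720 : Nat.card (Perm (Fin 6)) = 720 := by rw [Nat.card_perm]; simp [Nat.factorial]
  have h2 : Nat.card S = 16 := by
    rw [S.card_eq_multiplicity, h720]
    have : Nat.factorization 720 2 = 4 := by
      rw [Nat.factorization_def _ Nat.prime_two, padicValNat_def' (by norm_num) (by norm_num)]
      exact multiplicity_eq_of_dvd_of_not_dvd (by norm_num) (by norm_num)
    rw [this]; rfl
  by_contra hc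
  have h3 : (S : Subgroup _) = P := by
    refine (Subgroup.eq_of_le_of_card_ge hS ?_).symm
    rw [h2, hn]
    rw [hn] at hc
    exact Nat.pow_le_pow_right (n := 2) (i := 4) (by norm_num) (by
      by_contra h4
      exact hc (Nat.pow_le_pow_right (n := 2) (j := 3) (by norm_num) (by omega)))
  have h4 : IsPGroup 2 (Subgroup.zpowers (swap (0 : Fin 6) 1 * swap 1 2 * swap 2 3)) :=
    IsPGroup.of_card (n := 2) (by rw [Nat.card_zpowers]; exact orderOf_eq_prime_pow (by decide) (by decide))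
  obtain ⟨T, hT⟩ := h4.exists_le_sylow
  obtain ⟨g, rfl⟩ := MulAction.exists_smul_eq (Perm (Fin 6)) S T
  have h5 := hT (Subgroup.mem_zpowers _)
  rw [Sylow.coe_subgroup_smul, Subgroup.mem_pointwise_smul_iff_inv_smul_mem, h3] at h5
  have h6 := hP _ h5
  rw [← smul_mul', smul_eq_iff_eq_inv_smul, smul_one] at h6
  exact absurd h6 (by decide)

theorem Emb.card_le_eight (h : Emb f ψ) {R : Subgroup Γ} (h1 : ∀ r ∈ R, r * r = 1) (h2 : ∀ r ∈ R, f r = 1) :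
    Nat.card R ≤ 8 := by
  refine le_trans (Nat.card_le_card_of_injective (ψ.subgroupMap R) ?_) (s6_elem ?_)
  · exact fun a b e => Subtype.ext (h.ext (by rw [h2 _ a.2, h2 _ b.2]) (congrArg Subtype.val e))
  · rintro _ ⟨r, hr, rfl⟩
    rw [← map_mul, h1 r hr, map_one]

theorem Emb.card_ker [Finite Γ] (h : Emb f ψ) :
    1080 ≤ Nat.card ((sign.comp f).ker ⊓ (sign.comp ψ).ker : Subgroup Γ) := by
  have h1 : Nat.card (alternatingGroup (Fin 3) × alternatingGroup (Fin 6)) = 1080 := by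
    rw [Nat.card_prod, nat_card_alternatingGroup, nat_card_alternatingGroup]
    simp [Nat.factorial]
  rw [← h1]
  refine Nat.card_le_card_of_surjective (fun g => (⟨f g, g.2.1⟩, ⟨ψ g, g.2.2⟩)) ?_
  rintro ⟨a, b⟩
  obtain ⟨g, e1, e2⟩ := h.surj a b a.2 b.2
  exact ⟨⟨g, show sign (f g) = 1 from e1 ▸ a.2, show sign (ψ g) = 1 from e2 ▸ b.2⟩, Prod.ext (Subtype.ext e1) (Subtype.ext e2)⟩

theorem s6_conj : ∀ x : Perm (Fin 6), x * x = 1 → x ≠ 1 → sign x = 1 →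
    ∃ g : Perm (Fin 6), g * x = swap 2 3 * swap 4 5 * g := by decide +kernel

theorem s6_cent : (Finset.univ.filter fun g : Perm (Fin 6) =>
    g * (swap 2 3 * swap 4 5) = swap 2 3 * swap 4 5 * g ∧ sign g = 1).card = 8 := by decide +kernel

theorem s6_norm : ∀ g : Perm (Fin 6), g * (swap 2 3 * swap 4 5) = swap 2 3 * swap 4 5 * g → g * g = 1 →
    sign g = 1 → (swap 2 4 * swap 3 5 * g = g * (swap 2 4 * swap 3 5) ∨
      swap 2 4 * swap 3 5 * g = swap 2 3 * swap 4 5 * g * (swap 2 4 * swap 3 5)) ∧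
    (swap 0 1 * swap 2 3 * g = g * (swap 0 1 * swap 2 3) ∨
      swap 0 1 * swap 2 3 * g = swap 2 3 * swap 4 5 * g * (swap 0 1 * swap 2 3)) := by decide +kernel

theorem Emb.wlog (h : Emb f ψ) {x : Γ} (h2 : x * x = 1) (h1 : x ≠ 1) (hf : f x = 1) (hs : sign (ψ x) = 1) :
    ∃ ψ' : Γ →* Perm (Fin 6), Emb f ψ' ∧ ψ' x = swap 2 3 * swap 4 5 ∧ ∀ g, sign (ψ' g) = sign (ψ g) := by
  obtain ⟨g, hg⟩ := s6_conj (ψ x) (by rw [← map_mul, h2, map_one]) (fun e => h1 (h.inj x hf e)) hs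
  refine ⟨(MulAut.conj g).toMonoidHom.comp ψ, ⟨fun a ha hb => h.inj a ha (by simpa using hb),
    fun a b ha hb => ?_⟩, ?_, fun a => ?_⟩
  · obtain ⟨c, e1, e2⟩ := h.surj a (g⁻¹ * b * g) ha (by simp [hb])
    exact ⟨c, e1, by simp [e2, mul_assoc]⟩
  · simp [hg]
  · simp [mul_right_comm]

theorem Emb.exists_five (h : Emb f ψ) {x : Γ} (h2 : x * x = 1) (h1 : x ≠ 1) (hf : f x = 1)
    (hs : sign (ψ x) = 1) : ∃ y y₁ y₂ : Γ, f y = 1 ∧ f y₁ = 1 ∧ f y₂ = 1 ∧ y ^ 5 = 1 ∧ y₁ ^ 5 = 1 ∧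
      y₂ ^ 5 = 1 ∧ y ≠ 1 ∧ x * y = y⁻¹ * x ∧ x = y₁ * y₂ := by
  obtain ⟨ψ, h, hx, -⟩ := h.wlog h2 h1 hf hs
  obtain ⟨y, e1, e2⟩ := h.surj 1 (swap 1 2 * swap 2 4 * swap 4 5 * swap 5 3) (map_one _) (by decide)
  obtain ⟨w, e3, e4⟩ := h.surj 1 (swap 1 2 * swap 2 4 * swap 4 3 * swap 3 5) (map_one _) (by decide)
  refine ⟨y, w, w⁻¹ * x, e1, e3, by simp [e3, hf], h.inj _ (by simp [e1]) (by rw [map_pow, e2]; decide),
    h.inj _ (by simp [e3]) (by rw [map_pow, e4]; decide),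
    h.inj _ (by simp [e3, hf]) (by rw [map_pow, map_mul, map_inv, e4, hx]; decide +kernel),
    fun e => by rw [e, map_one] at e2; exact absurd e2 (by decide),
    h.ext (by simp [e1]) (by rw [map_mul, map_mul, map_inv, e2, hx]; decide), by group⟩

theorem Emb.exists_frame [Finite Γ] (h : Emb f ψ) {x : Γ} (h2 : x * x = 1) (h1 : x ≠ 1) (hf : f x = 1)
    (hs : sign (ψ x) = 1) : ∃ a b θ η : Γ, Half f x a θ ∧ Half f x b η ∧ Cross x a b η ∧ Cross x b a θ ∧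
      (b * (θ * b * θ⁻¹)) ^ 3 = 1 ∧ b * (θ * b * θ⁻¹) ≠ 1 ∧
      (∀ S : Subgroup Γ, (∀ g ∈ S, f g = 1 ∧ sign (ψ g) = 1 ∧ g * x = x * g) → 5 ≤ Nat.card S →
        a ∈ S ∧ b ∈ S) ∧
      ∀ g, f g = 1 → sign (ψ g) = 1 → g * g = 1 → g * x = x * g →
        (a * g = g * a ∨ a * g = x * g * a) ∧ (b * g = g * b ∨ b * g = x * g * b) := by
  obtain ⟨ψ', h, hx, hψ⟩ := h.wlog h2 h1 hf hs
  simp only [← hψ]
  clear hψ hs
  obtain ⟨a, a1, a2⟩ := h.surj 1 (swap 2 4 * swap 3 5) (map_one _) (by decide)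
  obtain ⟨b, b1, b2⟩ := h.surj 1 (swap 0 1 * swap 2 3) (map_one _) (by decide)
  obtain ⟨θ, θ1, θ2⟩ := h.surj 1 (swap 3 4 * swap 4 5) (map_one _) (by decide)
  obtain ⟨η, η1, η2⟩ := h.surj 1 (swap 4 2 * swap 2 0 * swap 5 3 * swap 3 1) (map_one _) (by decide)
  have ne : ∀ {u v : Γ}, ψ' u ≠ ψ' v → u ≠ v := fun e e' => e (congrArg _ e')
  refine ⟨a, b, θ, η, ⟨a1, θ1, h.ext ?_ ?_, h.ext ?_ ?_, h.ext ?_ ?_, h.ext ?_ ?_⟩,
    ⟨b1, η1, h.ext ?_ ?_, h.ext ?_ ?_, h.ext ?_ ?_, h.ext ?_ ?_⟩, ⟨?_, ?_⟩, ⟨?_, ?_⟩, h.ext ?_ ?_, ne ?_,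
    fun S hS h5 => ?_, fun g g1 g2 g3 g4 => ?_⟩
  any_goals simp only [map_mul, map_inv, map_pow, map_one, a1, b1, θ1, η1, hf, a2, b2, θ2, η2, hx]
  any_goals decide +kernel
  · push Not
    refine ⟨ne ?_, ne ?_, ne ?_, ne ?_⟩ <;> simp only [map_mul, map_one, a2, b2, hx] <;> decide
  · rintro u (rfl | rfl | rfl) <;> push Not <;> refine ⟨ne ?_, ne ?_, ne ?_⟩ <;>
      simp only [map_mul, map_inv, a2, η2, hx] <;> decide
  · push Not
    refine ⟨ne ?_, ne ?_, ne ?_, ne ?_⟩ <;> simp only [map_mul, map_one, a2, b2, hx] <;> decide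
  · rintro u (rfl | rfl | rfl) <;> push Not <;> refine ⟨ne ?_, ne ?_, ne ?_⟩ <;>
      simp only [map_mul, map_inv, b2, θ2, hx] <;> decide
  · let T : Subgroup Γ := f.ker ⊓ (sign.comp ψ').ker ⊓ Subgroup.centralizer {x}
    have hT : ∀ g, g ∈ T ↔ f g = 1 ∧ sign (ψ' g) = 1 ∧ g * x = x * g := fun g => by
      simp only [T, Subgroup.mem_inf, MonoidHom.mem_ker, Subgroup.mem_centralizer_singleton_iff, and_assoc]
      rfl
    have h8 : Nat.card T = 8 := by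
      rw [← s6_cent, ← Fintype.card_coe, ← Nat.card_eq_fintype_card]
      refine Nat.card_eq_of_bijective (fun g => ⟨ψ' g, by
        obtain ⟨-, e1, e2⟩ := (hT g).1 g.2
        simp only [Finset.mem_filter, Finset.mem_univ, true_and]
        exact ⟨by rw [← hx, ← map_mul, e2, map_mul], e1⟩⟩) ⟨fun u v e => Subtype.ext (h.ext ?_
          (congrArg Subtype.val e)), fun c => ?_⟩
      · rw [((hT u).1 u.2).1, ((hT v).1 v.2).1]
      · obtain ⟨e1, e2⟩ := (Finset.mem_filter.1 c.2).2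
        obtain ⟨g, e3, e4⟩ := h.surj 1 c (map_one _) e2
        exact ⟨⟨g, (hT g).2 ⟨e3, e4 ▸ e2, h.ext (by simp [e3]) (by rw [map_mul, map_mul, e4, hx, e1])⟩⟩,
          Subtype.ext e4⟩
    have hST : S ≤ T := fun g hg => (hT g).2 (hS g hg)
    have h9 := Subgroup.card_dvd_of_le hST
    have h10 : S = T := Subgroup.eq_of_le_of_card_ge hST (by
      rw [h8] at h9 ⊢
      have := Nat.le_of_dvd (by norm_num) h9
      generalize Nat.card S = n at h5 h9 this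
      interval_cases n <;> simp_all)
    rw [h10, hT, hT]
    refine ⟨⟨a1, ?_, h.ext ?_ ?_⟩, b1, ?_, h.ext ?_ ?_⟩ <;>
      simp only [map_mul, a1, b1, hf, a2, b2, hx] <;> decide
  · obtain ⟨e1, e2⟩ := s6_norm (ψ' g) (by rw [← hx, ← map_mul, g4, map_mul]) (by rw [← map_mul, g3, map_one]) g2
    refine ⟨e1.imp (fun e => h.ext ?_ ?_) fun e => h.ext ?_ ?_, e2.imp (fun e => h.ext ?_ ?_) fun e => h.ext ?_ ?_⟩
    all_goals simp only [map_mul, a1, b1, g1, hf, a2, b2, hx, e, mul_one]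

end Cfsg.Lib.X18
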