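import Mathlib
import Cfsg.Agent.Lib.X18.Lin
import Cfsg.Agent.Lib.X18.Perm

set_option autoImplicit false

namespace Cfsg.Lib.X18

open Module Equiv Equiv.Perm

variable {Γ V : Type*} [Group Γ] [AddCommGroup V] [Module (ZMod 2) V]
  {σ : Γ →* Module.End (ZMod 2) V} {q : V → ZMod 2} {B : V →ₗ[ZMod 2] V →ₗ[ZMod 2] ZMod 2}

theorem cm_fpf {g : Γ} {n : ℕ} (hg : g ^ (2 * n + 1) = 1) {v : V} (hv : v ∈ Cm σ g) (h : σ g v = v) : v = 0 := by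
  obtain ⟨w, rfl⟩ := (mem_Cm σ).1 hv
  rw [fix_of_comm σ hg h, vv]

theorem cm_inv {g y : Γ} (e : y * g = g * y) {v : V} (hv : v ∈ Cm σ g) : σ y v ∈ Cm σ g := by
  obtain ⟨w, rfl⟩ := (mem_Cm σ).1 hv
  exact (mem_Cm σ).2 ⟨σ y w, by rw [map_add, σc σ e]⟩

theorem Pt.map {ρ γ : Γ} (e : ρ * γ = γ * ρ) {s v : V} (h : Pt σ ρ s v) : Pt σ ρ (σ γ s) (σ γ v) := by
  unfold Pt
  rw [σc σ e, ← map_add, ← map_zero (σ γ)]
  rcases h with rfl | rfl | rfl | rfl <;> simp only [true_or, or_true]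

theorem Pt.fix {ρ γ : Γ} (e : ρ * γ = γ * ρ) {s v : V} (h : Pt σ ρ s v) (hs : σ γ s = s) : σ γ v = v :=
  (mem_Fx σ).1 (h.mem ((mem_Fx σ).2 hs) ((mem_Fx σ).2 (by rw [← σc σ e, hs])))

variable [Finite V]

theorem QF.z15 (h : QF σ q B) {y ρ : Γ} (h5 : y ^ 5 = 1) (h3 : ρ ^ 3 = 1) (e : ρ * y = y * ρ) :
    (∀ v, σ y (σ ρ v + v) = σ ρ v + v) ∨ ((∀ v, σ ρ v = v → v = 0) ∧ ∀ v, σ y v = v → v = 0) := by
  have hU : ∀ v ∈ Cm σ y ⊓ Cm σ ρ, σ y v ∈ Cm σ y ⊓ Cm σ ρ := fun v hv =>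
    ⟨cm_inv rfl hv.1, cm_inv e.symm hv.2⟩
  have hf : ∀ v ∈ Cm σ y ⊓ Cm σ ρ, σ y v = v → v = 0 := fun v hv => cm_fpf (n := 2) h5 hv.1
  have hm : ∀ v, σ y (σ ρ v + v) + (σ ρ v + v) ∈ Cm σ y ⊓ Cm σ ρ := fun v =>
    ⟨⟨_, rfl⟩, (Cm σ ρ).add_mem (cm_inv e.symm ⟨v, rfl⟩) ⟨v, rfl⟩⟩
  have h1 := finrank_five σ h5 hU hf
  have h2 := Submodule.finrank_le (Cm σ y ⊓ Cm σ ρ)
  rw [h.dim] at h2
  have h4 : finrank (ZMod 2) (Cm σ y ⊓ Cm σ ρ : Submodule (ZMod 2) V) ≠ 4 := fun h4 => by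
    obtain ⟨u, hu, hu0, hq⟩ := h.five_sing h5 hU hf (by omega)
    have h6 : σ ρ (σ ρ u) = u + σ ρ u := by
      obtain ⟨w, rfl⟩ := (mem_Cm σ).1 hu.2
      have : σ ρ (σ ρ (σ ρ w)) = w := by rw [← σm, ← σm, ← pow_two, ← pow_succ, h3, σ1]
      simp only [map_add, this]
      apply c2; match_scalars <;> decide
    have nd : ∀ u ∈ Cm σ y ⊓ Cm σ ρ, (∀ v ∈ Cm σ y ⊓ Cm σ ρ, B u v = 0) → u = 0 := fun u hu hp => by
      refine hf u hu (add_eq_zero'.1 (cm_fpf (n := 1) h3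
        ((Cm σ ρ).add_mem (hU u hu).2 hu.2) (h.fix_of_perp fun w => ?_)))
      have := hp _ (hm (σ y⁻¹ w))
      rw [show σ ρ w + w = σ y (σ ρ (σ y⁻¹ w) + σ y⁻¹ w) by rw [map_add, ← σc σ e, σri], map_add B,
        LinearMap.add_apply, h.binv, add_comm, ← map_add, this]
    rcases h.five_plane h5 hU hf h4 nd hu hu0 hq
      (v := σ ρ u) ⟨cm_inv e hu.1, cm_inv rfl hu.2⟩ (by rw [h.inv, hq])
      (h.perp_of_sing hq (by rw [h.inv, hq]) (by rw [← h6, h.inv, h.inv, hq])) with h7 | h7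
    · exact hu0 ((σ_eq_zero σ).1 h7)
    · exact hu0 (cm_fpf (n := 1) h3 hu.2 h7)
  by_cases h0 : finrank (ZMod 2) (Cm σ y ⊓ Cm σ ρ : Submodule (ZMod 2) V) = 0
  · left
    intro v
    have := hm v
    rwa [Submodule.finrank_eq_zero.1 h0, Submodule.mem_bot, add_eq_zero'] at this
  · right
    have h8 : Cm σ y ⊓ Cm σ ρ = ⊤ := Submodule.eq_top_of_finrank_eq (by rw [h.dim]; omega)
    have h9 : ∀ v, v ∈ Cm σ y ⊓ Cm σ ρ := fun v => h8 ▸ Submodule.mem_top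
    exact ⟨fun v => cm_fpf (n := 1) h3 (h9 v).2, fun v => hf v (h9 v)⟩

/-- The system of special vectors with their subspaces and subgroups. -/
structure Sys (σ : Γ →* Module.End (ZMod 2) V) (q : V → ZMod 2) (B : V →ₗ[ZMod 2] V →ₗ[ZMod 2] ZMod 2)
    (Sp : V → Submodule (ZMod 2) V → Subgroup Γ → Prop) : Prop where
  eqv : ∀ {s D R}, Sp s D R → ∀ γ, ∃ D' R', Sp (σ γ s) D' R' ∧ (∀ v, σ γ v ∈ D' ↔ v ∈ D) ∧
    ∀ g, γ * g * γ⁻¹ ∈ R' ↔ g ∈ R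
  uniq : ∀ {s D R D' R'}, Sp s D R → Sp s D' R' → D = D' ∧ R = R'
  ne : ∀ {s D R}, Sp s D R → s ≠ 0
  mem : ∀ {s D R}, Sp s D R → s ∈ D
  sing : ∀ {s D R}, Sp s D R → ∀ v ∈ D, q v = 0
  sq : ∀ {s D R}, Sp s D R → ∀ r ∈ R, r * r = 1
  card : ∀ {s D R}, Sp s D R → Nat.card D * Nat.card R = 128
  fix : ∀ {s D R}, Sp s D R → ∀ r ∈ R, σ r s = s
  W : ∀ {s D R}, Sp s D R → ∀ r ∈ R, ∀ v, B s v = 0 → σ r v + v ∈ D
  DD : ∀ {s D R}, Sp s D R → ∀ r ∈ R, ∀ v ∈ D, σ r v + v = 0 ∨ σ r v + v = s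
  tri : ∀ {s D R s' D' R'}, Sp s D R → Sp s' D' R' → s' ∈ D → s' ≠ s → ∃ s'' D'' R'', Sp s'' D'' R'' ∧
    Nat.card D'' ≤ Nat.card (D ⊓ D' : Submodule (ZMod 2) V) * Nat.card (R ⊓ R' : Subgroup Γ)

/-- A special vector whose subgroup inverts the normal element of order three. -/
structure Bad (σ : Γ →* Module.End (ZMod 2) V) (q : V → ZMod 2) (B : V →ₗ[ZMod 2] V →ₗ[ZMod 2] ZMod 2)
    (Sp : V → Submodule (ZMod 2) V → Subgroup Γ → Prop) (f : Γ →* Perm (Fin 3)) (ψ : Γ →* Perm (Fin 6))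
    (ρ : Γ) (s : V) (D : Submodule (ZMod 2) V) (R : Subgroup Γ) (r : Γ) : Prop where
  qf : QF σ q B
  emb : Emb f ψ
  sys : Sys σ q B Sp
  p3 : ρ ^ 3 = 1
  sg : sign (f ρ) = 1
  ne : f ρ ≠ 1
  c : ∀ g, sign (f g) = 1 → ρ * g = g * ρ
  i : ∀ g, sign (f g) ≠ 1 → g * ρ = ρ⁻¹ * g
  sp : Sp s D R
  rR : r ∈ R
  sr : sign (f r) ≠ 1

variable {Sp : V → Submodule (ZMod 2) V → Subgroup Γ → Prop} {f : Γ →* Perm (Fin 3)}
  {ψ : Γ →* Perm (Fin 6)} {ρ : Γ} {s : V} {D : Submodule (ZMod 2) V} {R : Subgroup Γ} {r : Γ}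

omit [Finite V] in
theorem Bad.c1 (h : Bad σ q B Sp f ψ ρ s D R r) {g : Γ} (hg : f g = 1) : ρ * g = g * ρ :=
  h.c g (by rw [hg, map_one])

omit [Finite V] in
theorem Bad.norm (h : Bad σ q B Sp f ψ ρ s D R r) {γ : Γ} (hγ : σ γ s = s) :
    (∀ g ∈ R, γ * g * γ⁻¹ ∈ R) ∧ ∀ v ∈ D, σ γ v ∈ D := by
  obtain ⟨D', R', h1, h2, h3⟩ := h.sys.eqv h.sp γ
  rw [hγ] at h1
  obtain ⟨rfl, rfl⟩ := h.sys.uniq h.sp h1
  exact ⟨fun g hg => (h3 g).2 hg, fun v hv => (h2 v).2 hv⟩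

omit [Finite V] in
theorem Bad.f_one (h : Bad σ q B Sp f ψ ρ s D R r) {n : Γ} (hn : sign (f n) = 1) (hs : σ n s = s) :
    f n = 1 := by
  have := congrArg f (h.sys.sq h.sp _ (R.mul_mem (R.inv_mem h.rR) ((h.norm hs).1 r h.rR)))
  simp only [map_mul, map_inv, map_one] at this
  exact s3_b _ _ hn h.sr this

omit [Finite V] in
theorem Bad.perp (h : Bad σ q B Sp f ψ ρ s D R r) {s' D' R'} (h' : Sp s' D' R') {u v : V} (hu : u ∈ D')
    (hv : v ∈ D') : B u v = 0 :=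
  h.qf.perp_of_sing (h.sys.sing h' u hu) (h.sys.sing h' v hv) (h.sys.sing h' _ (D'.add_mem hu hv))

theorem Bad.exists_x (h : Bad σ q B Sp f ψ ρ s D R r) :
    ∃ x ∈ R, x ≠ 1 ∧ f x = 1 ∧ sign (ψ x) = 1 := by
  have h1 := h.qf.finrank_le_four (h.sys.sing h.sp)
  have h2 := h.sys.card h.sp
  have h3 : Nat.card D ≤ 16 := by
    rw [card_sub]; exact Nat.pow_le_pow_right (n := 2) (j := 4) (by norm_num) h1
  obtain ⟨x, hx, x1, e⟩ := exists_ker ((sign.comp f).prod (sign.comp ψ)) (R := R) (by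
    rw [Nat.card_prod, Nat.card_eq_fintype_card, Fintype.card_units_int]
    nlinarith)
  exact ⟨x, hx, x1, s3_a _ (by rw [← map_mul, h.sys.sq h.sp x hx, map_one]) (congrArg Prod.fst e),
    congrArg Prod.snd e⟩

theorem Bad.fpf (h : Bad σ q B Sp f ψ ρ s D R r) : ∀ v, σ ρ v = v → v = 0 := by
  by_contra hc
  obtain ⟨x, hx, x1, fx, sx⟩ := h.exists_x
  have xx := h.sys.sq h.sp x hx
  obtain ⟨y, y₁, y₂, f0, f1, f2, p0, p1, p2, y1, e, rfl⟩ := h.emb.exists_five xx x1 fx sx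
  have k : ∀ y, f y = 1 → y ^ 5 = 1 → ∀ v, σ y (σ ρ v + v) = σ ρ v + v := fun y h1 h2 =>
    (h.qf.z15 h2 h.p3 (h.c1 h1)).resolve_right fun h3 => hc h3.1
  have hs : σ ρ s ≠ s := fun h1 => h.ne (h.f_one h.sg h1)
  have h1 : ∀ v, σ (y₁ * y₂) v + v ∈ D := fun v => by
    rcases z2 (B s v) with h1 | h1
    · exact h.sys.W h.sp _ hx v h1
    obtain ⟨w, hw⟩ := not_forall.1 (mt h.qf.fix_of_perp hs)
    have := h.sys.W h.sp _ hx (v + (σ ρ w + w)) (by rw [map_add, h1, (z2 _).resolve_left hw]; decide)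
    rw [map_add, σm σ y₁ y₂ (_ + _), k _ f2 p2, k _ f1 p1] at this
    convert this using 1
    apply c2; match_scalars <;> decide
  generalize y₁ * y₂ = x at hx x1 fx sx xx e h1
  have hU : ∀ v ∈ Cm σ y, σ y v ∈ Cm σ y := fun v => cm_inv rfl
  have hf : ∀ v ∈ Cm σ y, σ y v = v → v = 0 := fun v => cm_fpf (n := 2) p0
  have h2 := finrank_five σ p0 hU hf
  have h3 := Submodule.finrank_le (Cm σ y)
  rw [h.qf.dim] at h3
  have h4 : Cm σ y ≠ ⊥ := fun h4 => y1 (h.qf.faith y fun v => by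
    have : σ y v + v ∈ Cm σ y := ⟨v, rfl⟩
    rwa [h4, Submodule.mem_bot, add_eq_zero'] at this)
  have h5 : Cm σ y ≠ ⊤ := fun h5 => hs (by
    obtain ⟨w, hw⟩ := (mem_Cm σ).1 (h5 ▸ Submodule.mem_top : s ∈ Cm σ y)
    have := k y f0 p0 w
    rw [map_add, ← σc σ (h.c1 f0)] at this
    rw [← hw, map_add]
    linear_combination (norm := (apply c2; match_scalars <;> decide)) this)
  have h6 : finrank (ZMod 2) (Cm σ y) = 4 := by
    have := mt Submodule.finrank_eq_zero.1 h4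
    have := mt (fun e : finrank (ZMod 2) (Cm σ y) = 8 => Submodule.eq_top_of_finrank_eq (e.trans h.qf.dim.symm)) h5
    omega
  have h7 : ∀ v, σ x (σ y v) = σ y⁻¹ (σ x v) := fun v => by rw [← σm, e, σm]
  obtain ⟨u, hu, hu0, hxu⟩ : ∃ u ∈ Cm σ y, u ≠ 0 ∧ σ x u = u := by
    obtain ⟨u, hu, hu0⟩ := (Submodule.ne_bot_iff _).1 h4
    by_cases h8 : σ x u = u
    · exact ⟨u, hu, hu0, h8⟩
    refine ⟨σ x u + u, (Cm σ y).add_mem ?_ hu, mt add_eq_zero'.1 h8, by rw [map_add, ← σm, xx, σ1, add_comm]⟩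
    obtain ⟨w, rfl⟩ := (mem_Cm σ).1 hu
    exact (mem_Cm σ).2 ⟨σ y⁻¹ (σ x w), by rw [map_add, h7, σri, add_comm]⟩
  obtain ⟨g1, g2⟩ := h.qf.five_gram p0 hU hf hu
  have g3 := h.sys.sing h.sp _ (h1 (σ y u))
  have g4 := h.sys.sing h.sp _ (h1 (σ y (σ y u)))
  rw [h7, hxu, h.qf.add, h.qf.inv, h.qf.inv, vv, zero_add, h.qf.adj, inv_inv] at g3
  rw [h7, h7, hxu, h.qf.add, h.qf.inv, h.qf.inv, h.qf.inv, h.qf.inv, vv, zero_add, h.qf.adj, h.qf.adj, inv_inv,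
    five_sum p0 hU hf hu, map_add, map_add, map_add, g1, g3, h.qf.self, zero_add, add_zero, add_zero] at g4
  refine hu0 (hf u hu (h.qf.fix_of_perp fun w => ?_))
  obtain ⟨a, b, c, d, e1⟩ := five_span p0 hU hf h6 hu hu0 (v := σ y w + w) ⟨w, rfl⟩
  simp [e1, h.qf.self, g1, g3, g4]

theorem Bad.h3 (h : Bad σ q B Sp f ψ ρ s D R r) (v : V) : σ ρ (σ ρ v) = v + σ ρ v :=
  three_sum σ h.p3 h.fpf v

theorem Bad.free (h : Bad σ q B Sp f ψ ρ s D R r) {x : Γ} (xx : x * x = 1) (x1 : x ≠ 1) (fx : f x = 1)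
    (sx : sign (ψ x) = 1) : Free σ x := by
  obtain ⟨y, -, -, f0, -, -, p0, -, -, y1, e, -⟩ := h.emb.exists_five xx x1 fx sx
  refine h.qf.free xx e fun v hv => ((h.qf.z15 p0 h.p3 (h.c1 f0)).resolve_left fun h1 => y1 ?_).2 v
    (fix_of_sq σ (n := 2) p0 hv)
  refine h.qf.faith y fun v => ?_
  have := h1 (σ ρ v)
  rwa [h.h3, add_assoc, vv, add_zero] at this

theorem Bad.rr (h : Bad σ q B Sp f ψ ρ s D R r) (v : V) : σ r (σ ρ v) = σ r v + σ ρ (σ r v) := by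
  rw [← σm, h.i r h.sr, σm, ← h.h3, ← σm σ ρ ρ, ← pow_two,
    inv_eq_of_mul_eq_one_left (show ρ ^ 2 * ρ = 1 by rw [← pow_succ, h.p3])]

theorem Bad.pt (h : Bad σ q B Sp f ψ ρ s D R r) {v : V} (h1 : v ∈ D) (h2 : σ ρ v ∈ D) : Pt σ ρ s v := by
  have k : ∀ w, σ ρ w ∈ D → σ r w = w → Pt σ ρ s w := fun w h3 h4 => by
    have := h.sys.DD h.sp r h.rR _ h3
    rw [h.rr, h4, add_assoc, vv, add_zero] at this
    exact this.imp_right Or.inl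
  rcases h.sys.DD h.sp r h.rR _ h1 with h3 | h3
  · exact k v h2 (add_eq_zero'.1 h3)
  rcases h.sys.DD h.sp r h.rR _ h2 with h4 | h4
  · exact (k _ (h.h3 v ▸ D.add_mem h1 h2) (add_eq_zero'.1 h4)).of_rho h.h3
  refine ((k (σ ρ (σ ρ v)) ?_ ?_).of_rho h.h3).of_rho h.h3
  · rwa [h.h3, h.h3, add_comm v, ← add_assoc, vv, zero_add]
  · rw [h.h3, map_add]
    linear_combination (norm := (apply c2; match_scalars <;> decide)) h3 + h4

omit [Finite V] in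
theorem Bad.hp (h : Bad σ q B Sp f ψ ρ s D R r) {x : Γ} (hx : x ∈ R) (F : Free σ x) {u v : V}
    (hu : σ x u = u) (hv : σ x v = v) (h1 : u ∉ D) (h2 : v ∉ D) : u + v ∈ D := by
  obtain ⟨a, rfl⟩ := F.rng u hu
  obtain ⟨b, rfl⟩ := F.rng v hv
  have := h.sys.W h.sp x hx (a + b) (by
    rw [map_add, (z2 _).resolve_left (mt (h.sys.W h.sp x hx a) h1),
      (z2 _).resolve_left (mt (h.sys.W h.sp x hx b) h2)]; decide)
  rw [map_add] at this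
  convert this using 1
  abel

omit [Finite V] in
theorem Bad.three (h : Bad σ q B Sp f ψ ρ s D R r) {x : Γ} (hx : x ∈ R) (F : Free σ x) (fx : f x = 1) {u : V}
    (hu : σ x u = u) : u ∈ D ∨ σ ρ u ∈ D ∨ u + σ ρ u ∈ D := by
  by_contra hc
  push Not at hc
  exact hc.2.2 (h.hp hx F hu (by rw [← σc σ (h.c1 fx), hu]) hc.1 hc.2.1)

theorem Bad.rho_mem (h : Bad σ q B Sp f ψ ρ s D R r) : σ ρ s ∈ D := by
  by_contra hc
  obtain ⟨x, hx, x1, fx, sx⟩ := h.exists_x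
  have F := h.free (h.sys.sq h.sp x hx) x1 fx sx
  have k : ∀ u, σ x u = u → u ∈ D → Pt σ ρ s u := fun u h1 h2 => by
    by_cases h3 : σ ρ u ∈ D
    · exact h.pt h2 h3
    have h4 := (h.pt (D.add_mem h2 (h.sys.mem h.sp)) (by
      rw [map_add]
      exact h.hp hx F (by rw [← σc σ (h.c1 fx), h1]) (by rw [← σc σ (h.c1 fx), h.sys.fix h.sp x hx]) h3 hc)).add
        (Or.inr (Or.inl rfl))
    rwa [add_assoc, vv, add_zero] at h4
  obtain ⟨u, hu, h1⟩ := exists_not_pt (σ := σ) (ρ := ρ) F.dim s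
  rw [mem_Fx] at hu
  have hu' : σ x (σ ρ u) = σ ρ u := by rw [← σc σ (h.c1 fx), hu]
  rcases h.three hx F fx hu with h2 | h2 | h2
  · exact h1 (k u hu h2)
  · exact h1 ((k _ hu' h2).of_rho h.h3)
  · have := k _ (by rw [map_add, hu, hu']) h2
    rw [← h.h3] at this
    exact h1 ((this.of_rho h.h3).of_rho h.h3)

theorem Bad.card_D (h : Bad σ q B Sp f ψ ρ s D R r) : Nat.card D = 16 := by
  have F : Free σ r := h.qf.free (h.sys.sq h.sp r h.rR) (h.i r h.sr) fun v hv =>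
    h.fpf v (fix_of_sq σ (n := 1) h.p3 hv)
  have h1 := finrank_le_succ (P := D ⊓ Fx σ r) (C := Fx σ r) fun u hu v hv h1 h2 =>
    ⟨h.hp h.rR F ((mem_Fx σ).1 hu) ((mem_Fx σ).1 hv) (fun e => h1 ⟨e, hu⟩) fun e => h2 ⟨e, hv⟩,
      (Fx σ r).add_mem hu hv⟩
  have h2 : D ⊓ Fx σ r < D := lt_of_le_of_ne inf_le_left fun e => by
    have h3 := (mem_Fx σ).1 ((e.ge h.rho_mem).2)
    rw [h.rr, h.sys.fix h.sp r h.rR, add_eq_right] at h3
    exact h.sys.ne h.sp h3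
  have h3 := Submodule.finrank_lt_finrank_of_lt h2
  have h4 := h.qf.finrank_le_four (h.sys.sing h.sp)
  rw [F.dim] at h1
  rw [card_sub, show finrank (ZMod 2) D = 4 by omega]; rfl

variable [Finite Γ]

theorem Bad.four (h : Bad σ q B Sp f ψ ρ s D R r) {x a u : Γ} (hx : x ∈ R) (ha : a ∈ R) (hu : u ∈ R)
    (fx : f x = 1) (fa : f a = 1) (fu : sign (f u) = 1) (x1 : x ≠ 1) (a1 : a ≠ 1) (xa : x ≠ a) :
    u = 1 ∨ u = x ∨ u = a ∨ u = x * a := by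
  by_contra hc
  have h1 := five_le (H := R ⊓ (sign.comp f).ker) ⟨hx, by simp [fx]⟩ ⟨ha, by simp [fa]⟩ ⟨hu, by simpa using fu⟩ x1 a1 xa
    (fun e => xa (by rw [← mul_one x, ← h.sys.sq h.sp a ha, ← mul_assoc, e, one_mul])) hc
  have h2 := h.sys.card h.sp
  rw [h.card_D] at h2
  have h3 : Nat.card R = 8 := by omega
  have h4 := Subgroup.card_dvd_of_le (inf_le_left : R ⊓ (sign.comp f).ker ≤ R)
  have h5 : R ⊓ (sign.comp f).ker = R := Subgroup.eq_of_le_of_card_ge inf_le_left (by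
    rw [h3] at h4 ⊢
    have := Nat.le_of_dvd (by norm_num) h4
    generalize Nat.card (R ⊓ (sign.comp f).ker : Subgroup Γ) = n at h1 h4 this
    interval_cases n <;> simp_all)
  exact h.sr (h5.ge h.rR).2

omit [Finite Γ] in
theorem Bad.card_all (h : Bad σ q B Sp f ψ ρ s D R r) {s' D' R'} (h' : Sp s' D' R') : 16 ≤ Nat.card D' := by
  by_cases h1 : ∃ r' ∈ R', sign (f r') ≠ 1
  · obtain ⟨r', h1, h2⟩ := h1
    exact (Bad.card_D { h with sp := h', rR := h1, sr := h2 }).ge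
  push Not at h1
  have h2 := h.emb.card_le_eight (h.sys.sq h') fun g hg =>
    s3_a _ (by rw [← map_mul, h.sys.sq h' g hg, map_one]) (h1 g hg)
  have h3 := h.sys.card h'
  nlinarith

omit [Finite Γ] in
theorem Bad.fix_of_pt (h : Bad σ q B Sp f ψ ρ s D R r) {n : Γ} (fn : f n = 1) (hn : Pt σ ρ s (σ n s)) :
    σ n s = s := by
  rcases hn.symm h.h3 (mt (σ_eq_zero σ).1 (h.sys.ne h.sp)) with e | e | e | e
  · exact absurd e (h.sys.ne h.sp)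
  · exact e.symm
  · have := h.f_one (n := ρ * n) (by simp [h.sg, fn]) (by rw [σm, ← e])
    rw [map_mul, fn, mul_one] at this
    exact absurd this h.ne
  · have := h.f_one (n := ρ * (ρ * n)) (by simp [fn]) (by rw [σm, σm, h.h3, ← e])
    rw [map_mul, map_mul, fn, mul_one] at this
    refine absurd ?_ h.ne
    have h1 : f ρ * f ρ * f ρ = 1 := by rw [← pow_two, ← pow_succ, ← map_pow, h.p3, map_one]
    rwa [this, one_mul] at h1

end Cfsg.Lib.X18
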