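import Mathlib
import Cfsg.Agent.Lib.X18.Sys

set_option autoImplicit false

namespace Cfsg.Lib.X18

open Module Equiv Equiv.Perm

variable {Γ V : Type*} [Group Γ] [AddCommGroup V] [Module (ZMod 2) V]
  {σ : Γ →* Module.End (ZMod 2) V} {q : V → ZMod 2} {B : V →ₗ[ZMod 2] V →ₗ[ZMod 2] ZMod 2}
  {Sp : V → Submodule (ZMod 2) V → Subgroup Γ → Prop} {f : Γ →* Perm (Fin 3)}
  {ψ : Γ →* Perm (Fin 6)} {ρ : Γ} {s : V} {D : Submodule (ZMod 2) V} {R : Subgroup Γ} {r : Γ}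

theorem Half.pres {x a θ : Γ} (H : Half f x a θ) {v : V} (h1 : σ x v = v) (h2 : σ a v = v) :
    σ x (σ θ v) = σ θ v ∧ σ a (σ θ v) = σ θ v := by
  have e1 : a * θ = θ * x := by rw [← H.θx]; group
  have e2 : x * θ = θ * (x * a) := by
    have : θ * (x * a) * θ⁻¹ = x := by
      rw [show θ * (x * a) * θ⁻¹ = θ * x * θ⁻¹ * (θ * a * θ⁻¹) by group, H.θx, H.θa, ← H.ax, ← mul_assoc, H.aa,
        one_mul]
    rw [← mul_inv_eq_iff_eq_mul.1 this]
  exact ⟨by rw [← σm, e2, σm, σm, h2, h1], by rw [← σm, e1, σm, h1]⟩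

theorem Half.ne {x a θ : Γ} (H : Half f x a θ) (x1 : x ≠ 1) : a ≠ 1 ∧ x ≠ a := by
  refine ⟨fun e => x1 ?_, fun e => x1 ?_⟩
  · have := H.θx
    rwa [e, mul_inv_eq_one, mul_eq_left] at this
  · have h1 := H.θa
    have h2 := H.θx
    subst e
    rwa [h2, left_eq_mul] at h1

variable [Finite V]

theorem Bad.dich (h : Bad σ q B Sp f ψ ρ s D R r) {x a : Γ} (hx : x ∈ R) (F : Free σ x) (fx : f x = 1)
    (fa : f a = 1) (ha : σ a s = s) :
    (∀ v, σ x v = v → σ a v = v) ∨ ∀ v, σ x v = v → σ a v = v → Pt σ ρ s v := by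
  rw [or_iff_not_imp_right]
  intro hc v hv
  push Not at hc
  obtain ⟨u, h1, h2, h3⟩ := hc
  obtain ⟨b, c, hb, hc, rfl⟩ := span_four h.h3 F.dim
    (fun v hv => (mem_Fx σ).2 (by rw [← σc σ (h.c1 fx), (mem_Fx σ).1 hv]))
    ((mem_Fx σ).2 (h.sys.fix h.sp x hx)) (h.sys.ne h.sp) ((mem_Fx σ).2 h1) h3 ((mem_Fx σ).2 hv)
  rw [map_add, hb.fix (h.c1 fa) ha, hc.fix (h.c1 fa) h2]

theorem Bad.inf_lt (h : Bad σ q B Sp f ψ ρ s D R r) {x : Γ} (F : Free σ x) (fx : f x = 1) :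
    finrank (ZMod 2) (D ⊓ Fx σ x : Submodule (ZMod 2) V) ≤ 3 := by
  have h2 : D ⊓ Fx σ x < Fx σ x := lt_of_le_of_ne inf_le_right fun e => by
    obtain ⟨u, hu, h1⟩ := exists_not_pt (σ := σ) (ρ := ρ) F.dim s
    exact h1 (h.pt (e.ge hu).1 (e.ge ((mem_Fx σ).2 (by rw [← σc σ (h.c1 fx), (mem_Fx σ).1 hu]))).1)
  have := Submodule.finrank_lt_finrank_of_lt h2
  rw [F.dim] at this
  omega

variable [Finite Γ]

theorem Bad.core (h : Bad σ q B Sp f ψ ρ s D R r) {x a b θ η : Γ} (H1 : Half f x a θ) (H2 : Half f x b η)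
    (C : Cross x a b η) (hx : x ∈ R) (ha : a ∈ R) (x1 : x ≠ 1) (fx : f x = 1) (F : Free σ x)
    (hb : ∀ v, σ x v = v → σ b v = v) : False := by
  have xs := h.sys.fix h.sp x hx
  have four := fun {u : Γ} (hu : u ∈ R) (fu : sign (f u) = 1) =>
    h.four hx ha hu fx H1.fa fu x1 (H1.ne x1).1 (H1.ne x1).2
  have h1 : ¬ Pt σ ρ s (σ η s) := fun h1 =>
    C.nb (four (H2.θx ▸ (h.norm (h.fix_of_pt H2.fθ h1)).1 x hx) (by rw [H2.fa, map_one]))
  have h2 := (H2.pres xs (hb s xs)).1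
  obtain ⟨γ, g1, g2, g3, g4, g5⟩ : ∃ γ, σ γ s ∈ D ∧ ¬ Pt σ ρ s (σ γ s) ∧ σ x (σ γ s) = σ γ s ∧
      sign (f γ) = 1 ∧ ∀ u, sign (f u) = 1 → γ⁻¹ * u * γ = η⁻¹ * u * η := by
    have k : ∀ u, sign (f u) = 1 → ρ⁻¹ * u * ρ = u := fun u hu => by rw [mul_assoc, ← h.c u hu]; group
    rcases h.three hx F fx h2 with h3 | h3 | h3
    · exact ⟨η, h3, h1, h2, by rw [H2.fθ, map_one], fun u _ => rfl⟩
    · refine ⟨ρ * η, by rwa [σm], fun e => h1 (by rw [σm] at e; exact e.of_rho h.h3),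
        by rw [σm, ← σc σ (h.c1 fx), h2], by simp [h.sg, H2.fθ], fun u hu => ?_⟩
      rw [show (ρ * η)⁻¹ * u * (ρ * η) = η⁻¹ * (ρ⁻¹ * u * ρ) * η by group, k u hu]
    · refine ⟨ρ * (ρ * η), by rwa [σm, σm, h.h3],
        fun e => h1 (by rw [σm, σm] at e; exact (e.of_rho h.h3).of_rho h.h3),
        by rw [σm, σm, ← σc σ (h.c1 fx), ← σc σ (h.c1 fx), h2], by simp [H2.fθ], fun u hu => ?_⟩
      rw [show (ρ * (ρ * η))⁻¹ * u * (ρ * (ρ * η)) = η⁻¹ * (ρ⁻¹ * (ρ⁻¹ * u * ρ) * ρ) * η by group, k u hu,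
        k u hu]
  have cγ := h.c γ g4
  obtain ⟨D', R', sp', hD', hR'⟩ := h.sys.eqv h.sp γ
  obtain ⟨s'', D'', R'', sp'', hle⟩ := h.sys.tri h.sp sp' g1 fun e => g2 (Or.inr (Or.inl e))
  have h3 := h.card_all sp''
  have h4 : Nat.card (D ⊓ D' : Submodule (ZMod 2) V) ≤ 4 := by
    have k1 : D ⊓ D' ≤ D ⊓ Fx σ x := fun v hv => ⟨hv.1, (mem_Fx σ).2 (h.qf.fix_of_perp fun w => by
      obtain ⟨b, c, hb, hc, e⟩ := span_four h.h3 F.dim
        (fun v hv => (mem_Fx σ).2 (by rw [← σc σ (h.c1 fx), (mem_Fx σ).1 hv]))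
        ((mem_Fx σ).2 xs) (h.sys.ne h.sp) ((mem_Fx σ).2 g3) g2 (v := σ x w + w)
        ((mem_Fx σ).2 (by rw [map_add, ← σm, h.sys.sq h.sp x hx, σ1, add_comm]))
      rw [e, map_add, h.perp h.sp hv.1 (hb.mem (h.sys.mem h.sp) h.rho_mem),
        h.perp sp' hv.2 (hc.mem (h.sys.mem sp') (by rw [σc σ cγ, hD']; exact h.rho_mem)), add_zero])⟩
    rw [card_sub]
    refine Nat.pow_le_pow_right (n := 2) (j := 2) (by norm_num) ?_
    by_contra k2
    have k3 := Submodule.eq_of_le_of_finrank_le k1 (by have := h.inf_lt F fx; omega)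
    have k4 : s ∈ D' := (k3.ge ⟨h.sys.mem h.sp, (mem_Fx σ).2 xs⟩).2
    have k5 : σ ρ s ∈ D' := (k3.ge ⟨h.rho_mem, (mem_Fx σ).2 (by rw [← σc σ (h.c1 fx), xs])⟩).2
    have k6 := ((h.pt (v := σ γ⁻¹ s) (by rwa [← hD', σri]) (by rwa [← hD', ← σc σ cγ, σri])).symm h.h3
      (mt (σ_eq_zero σ).1 (h.sys.ne h.sp))).map cγ
    rw [σri] at k6
    exact g2 k6
  have h5 : Nat.card (R ⊓ R' : Subgroup Γ) ≤ 2 := by
    by_contra k
    obtain ⟨u, hu, u1, su⟩ := exists_ker (sign.comp f) (R := R ⊓ R') (by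
      rw [Nat.card_eq_fintype_card, Fintype.card_units_int]; omega)
    have su' : sign (f u) = 1 := su
    have k1 : η⁻¹ * u * η ∈ R := by
      rw [← g5 u su', ← hR', show γ * (γ⁻¹ * u * γ) * γ⁻¹ = u by group]
      exact hu.2
    refine C.int u ((four hu.1 su').resolve_left u1) ((four k1 (by simp [H2.fθ, su'])).resolve_left fun e => u1 ?_)
    rw [show u = η * (η⁻¹ * u * η) * η⁻¹ by group, e]; group
  nlinarith

theorem Bad.lemI (h : Bad σ q B Sp f ψ ρ s D R r) {x a b θ η : Γ} (H1 : Half f x a θ) (H2 : Half f x b η)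
    (C1 : Cross x a b η) (C2 : Cross x b a θ) (e1 : (b * (θ * b * θ⁻¹)) ^ 3 = 1) (e2 : b * (θ * b * θ⁻¹) ≠ 1)
    (hx : x ∈ R) (x1 : x ≠ 1) (fx : f x = 1) (F : Free σ x) (ha : σ a s = s) (hb : σ b s = s) : False := by
  have xs := h.sys.fix h.sp x hx
  have k : ∀ {a θ : Γ}, Half f x a θ → σ a s = s → (∀ v, σ x v = v → σ a v = v) ∨ a ∈ R := fun H ha =>
    (h.dich hx F fx H.fa ha).imp_right fun h1 =>
      H.θx ▸ (h.norm (h.fix_of_pt H.fθ (h1 _ (H.pres xs ha).1 (H.pres xs ha).2))).1 x hx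
  rcases k H1 ha with h1 | h1 <;> rcases k H2 hb with h2 | h2
  · refine e2 (h.qf.eq_one_of_triv (n := 1) e1 (fun v hv => ?_) (h.sys.sq h.sp x hx))
    have h3 : σ x (σ θ⁻¹ v) = σ θ⁻¹ v := by
      rw [← σm, show x * θ⁻¹ = θ⁻¹ * a by rw [← H1.θx]; group, σm, h1 v hv]
    rw [σm, σm, σm, h2 _ h3, σri, h2 v hv]
  · exact h.core H2 H1 C2 hx h2 x1 fx F h1
  · exact h.core H1 H2 C1 hx h1 x1 fx F h2
  · exact C1.nb (h.four hx h1 h2 fx H1.fa (by rw [H2.fa, map_one]) x1 (H1.ne x1).1 (H1.ne x1).2)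

theorem Bad.lemI' (h : Bad σ q B Sp f ψ ρ s D R r) {x : Γ} (hx : x ∈ R) (x1 : x ≠ 1) (fx : f x = 1)
    (sx : sign (ψ x) = 1) {S : Subgroup Γ}
    (hS : ∀ g ∈ S, f g = 1 ∧ sign (ψ g) = 1 ∧ σ g s = s) (h5 : 5 ≤ Nat.card (S ⊓ Subgroup.centralizer {x} : Subgroup Γ)) :
    False := by
  have xx := h.sys.sq h.sp x hx
  obtain ⟨a, b, θ, η, H1, H2, C1, C2, e1, e2, h1, -⟩ := h.emb.exists_frame xx x1 fx sx
  obtain ⟨h2, h3⟩ := h1 (S ⊓ Subgroup.centralizer {x}) (fun g hg => ⟨(hS g hg.1).1, (hS g hg.1).2.1,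
    Subgroup.mem_centralizer_singleton_iff.1 hg.2⟩) h5
  exact h.lemI H1 H2 C1 C2 e1 e2 hx x1 fx (h.free xx x1 fx sx) (hS a h2.1).2.2 (hS b h3.1).2.2

theorem Bad.lemI'' (h : Bad σ q B Sp f ψ ρ s D R r) {x g : Γ} (hx : x ∈ R) (x1 : x ≠ 1) (fx : f x = 1)
    (sx : sign (ψ x) = 1) (hg : g ∈ R) (fg : f g = 1) (sg : sign (ψ g) = 1) (gx : g * x = x * g)
    (hp : ∀ v, σ x v = v → σ g v = v → Pt σ ρ s v) : False := by
  have xx := h.sys.sq h.sp x hx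
  have xs := h.sys.fix h.sp x hx
  have gs := h.sys.fix h.sp g hg
  obtain ⟨a, b, θ, η, H1, H2, C1, C2, e1, e2, -, h1⟩ := h.emb.exists_frame xx x1 fx sx
  obtain ⟨h2, h3⟩ := h1 g fg sg (h.sys.sq h.sp g hg) gx
  have k : ∀ {a θ : Γ}, Half f x a θ → (a * g = g * a ∨ a * g = x * g * a) → σ a s = s := fun {a θ} H e => by
    have h4 : σ x (σ a s) = σ a s := by rw [← σc σ H.ax, xs]
    refine h.fix_of_pt H.fa (hp _ h4 ?_)
    rcases e with e | e
    · rw [← σc σ e, gs]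
    · apply σinj σ x
      rw [← σm, ← σm, ← e, σm, gs, h4]
  exact h.lemI H1 H2 C1 C2 e1 e2 hx x1 fx (h.free xx x1 fx sx) (k H1 h2) (k H2 h3)

omit [Finite Γ] in
theorem Bad.lemII (h : Bad σ q B Sp f ψ ρ s D R r) {x a n : Γ} (H : Half f x a n) (hx : x ∈ R) (x1 : x ≠ 1)
    (fx : f x = 1) (F : Free σ x) (n3 : n ^ 3 = 1) (ns : σ n s = s) (ha : ∀ v, σ x v = v → σ a v = v) :
    False := by
  have xs := h.sys.fix h.sp x hx
  have cn := h.c1 H.fθ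
  have hρ : ∀ v, σ x v = v → σ x (σ ρ v) = σ ρ v := fun v hv => by rw [← σc σ (h.c1 fx), hv]
  have h1 : ∀ v ∈ D, σ x v = v → σ n v = v := fun v hv xv => by
    by_cases h1 : Pt σ ρ s v
    · exact h1.fix cn ns
    refine fix_of_comm σ (n := 1) n3 (Pt.fix cn ?_ ns)
    obtain ⟨b, c, hb, hc, e⟩ := span_four h.h3 F.dim (fun v hv => (mem_Fx σ).2 (hρ v ((mem_Fx σ).1 hv)))
      ((mem_Fx σ).2 xs) (h.sys.ne h.sp) ((mem_Fx σ).2 xv) h1 ((mem_Fx σ).2 (H.pres xv (ha v xv)).1)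
    have h2 : c ∈ D := by
      rw [show c = b + σ n v by rw [e, ← add_assoc, vv, zero_add]]
      exact D.add_mem (hb.mem (h.sys.mem h.sp) h.rho_mem) ((h.norm ns).2 v hv)
    rcases hc with rfl | rfl | rfl | rfl
    · rw [add_zero] at e
      refine absurd ?_ h1
      rwa [← σinj σ n (e.trans (hb.fix cn ns).symm)] at hb
    · rwa [e, add_assoc, vv, add_zero]
    · exact absurd (h.pt hv h2) h1
    · exact absurd (h.pt hv ((D.add_mem_iff_right hv).1 h2)) h1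
  have h2 := h.qf.eq_one_of_triv (n := 1) n3 (fun v hv => by
    rcases h.three hx F fx hv with h2 | h2 | h2
    · exact h1 v h2 hv
    · exact σinj σ ρ (by rw [σc σ cn, h1 _ h2 (hρ v hv)])
    · rw [← h.h3] at h2
      exact σinj σ ρ (σinj σ ρ (by rw [σc σ cn, σc σ cn, h1 _ h2 (hρ _ (hρ v hv))]))) (h.sys.sq h.sp x hx)
  have h3 := H.θx
  rw [h2, one_mul, inv_one, mul_one] at h3
  exact (H.ne x1).2 h3

omit [Finite Γ] in
theorem QF.index_St (h : QF σ q B) (L : Subgroup Γ) (s : V) : (St σ s).relIndex L ≤ 256 := by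
  have h1 : Nat.card V = 256 := by rw [Module.natCard_eq_pow_finrank (K := ZMod 2), Nat.card_zmod, h.dim]; rfl
  rw [← h1]
  refine Nat.card_le_card_of_injective (Quotient.lift (fun g : L => σ g s) fun a b e => ?_) fun a b => ?_
  · have := QuotientGroup.leftRel_apply.1 e
    rw [Subgroup.mem_subgroupOf, mem_St, Subgroup.coe_mul, Subgroup.coe_inv, σm] at this
    rw [← σri σ a (σ b s), this]
  · induction a using QuotientGroup.induction_on
    induction b using QuotientGroup.induction_on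
    intro e
    rw [QuotientGroup.eq, Subgroup.mem_subgroupOf, mem_St, Subgroup.coe_mul, Subgroup.coe_inv, σm]
    exact (congrArg _ e.symm).trans (σli σ _ _)

theorem Bad.false (h : Bad σ q B Sp f ψ ρ s D R r) : False := by
  obtain ⟨x, hx, x1, fx, sx⟩ := h.exists_x
  have xx := h.sys.sq h.sp x hx
  let L : Subgroup Γ := (sign.comp f).ker ⊓ (sign.comp ψ).ker
  have hS : ∀ g ∈ St σ s ⊓ L, f g = 1 ∧ sign (ψ g) = 1 ∧ σ g s = s := fun g hg =>
    ⟨h.f_one hg.2.1 hg.1, hg.2.2, hg.1⟩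
  have hS' : ∀ g ∈ R, f g = 1 → sign (ψ g) = 1 → g ∈ St σ s ⊓ L := fun g hg e1 e2 =>
    ⟨h.sys.fix h.sp g hg, by simp [e1], by simpa using e2⟩
  have h5 : 5 ≤ Nat.card (St σ s ⊓ L : Subgroup Γ) := by
    have h1 := h.emb.card_ker
    have h2 := h.qf.index_St L s
    have h3 := ((St σ s).subgroupOf L).card_mul_index
    rw [← Subgroup.inf_subgroupOf_right,
      Nat.card_congr (Subgroup.subgroupOfEquivOfLe inf_le_right).toEquiv, Subgroup.inf_subgroupOf_right] at h3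
    change _ * (St σ s).relIndex L = _ at h3
    change 1080 ≤ Nat.card L at h1
    nlinarith
  generalize St σ s ⊓ L = S at hS hS' h5
  have mc : ∀ {g y : Γ}, g * y = y * g → g ∈ Subgroup.centralizer ({y} : Set Γ) :=
    Subgroup.mem_centralizer_singleton_iff.2
  by_cases h1 : S ≤ Subgroup.centralizer {x}
  · exact h.lemI' hx x1 fx sx hS (by rwa [inf_eq_left.2 h1])
  obtain ⟨n, hn, nx⟩ := SetLike.not_le_iff_exists.1 h1
  rw [Subgroup.mem_centralizer_singleton_iff] at nx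
  obtain ⟨fn, sn, ns⟩ := hS n hn
  obtain ⟨a, ea⟩ : ∃ a, n * x * n⁻¹ = a := ⟨_, rfl⟩
  have ha : a ∈ R := ea ▸ (h.norm ns).1 x hx
  have fa : f a = 1 := by simp [← ea, fn, fx]
  have sa : sign (ψ a) = 1 := by simp [← ea, sn, sx]
  have a1 : a ≠ 1 := fun e => x1 (by rwa [e, mul_inv_eq_one, mul_eq_left] at ea)
  have xa : x ≠ a := fun e => nx (by rwa [← e, mul_inv_eq_iff_eq_mul] at ea)
  have aa := h.sys.sq h.sp a ha
  have ax : a * x = x * a := by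
    rw [← inv_eq_of_mul_eq_one_right (h.sys.sq h.sp _ (R.mul_mem hx ha)), mul_inv_rev,
      inv_eq_of_mul_eq_one_right xx, inv_eq_of_mul_eq_one_right aa]
  have xa1 : x * a ≠ 1 := fun e => xa (by rw [← mul_one x, ← aa, ← mul_assoc, e, one_mul])
  have cF : ∀ u, (u = 1 ∨ u = x ∨ u = a ∨ u = x * a) → u * x = x * u := by
    rintro u (rfl | rfl | rfl | rfl)
    exacts [by simp, rfl, ax, by rw [mul_assoc, ax]]
  have xS := hS' x hx fx sx
  have aS := hS' a ha fa sa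
  rcases h.four hx ha ((h.norm ns).1 a ha) fx fa (by simp [fn, fa]) x1 a1 xa with e | e | e | e
  · exact a1 (by rwa [mul_inv_eq_one, mul_eq_left] at e)
  · refine h.lemI' (R.mul_mem hx ha) xa1 (by simp [fx, fa]) (by simp [sx, sa]) hS
      (five_le ⟨xS, mc (by rw [mul_assoc, ax])⟩ ⟨aS, mc (by rw [← mul_assoc, ax])⟩ ⟨hn, mc ?_⟩ x1 a1 xa xa1
        fun e => nx (cF n e))
    rw [← mul_inv_eq_iff_eq_mul, show n * (x * a) * n⁻¹ = n * x * n⁻¹ * (n * a * n⁻¹) by group, ea, e, ax]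
  · exact xa (by rw [← ea, mul_left_inj, mul_right_inj] at e; exact (ea ▸ e).symm)
  have H : Half f x a n := ⟨fa, fn, aa, ax, ea, e⟩
  have e' : n * (x * a) * n⁻¹ = x := by
    rw [show n * (x * a) * n⁻¹ = n * x * n⁻¹ * (n * a * n⁻¹) by group, ea, e, ← ax, ← mul_assoc, aa, one_mul]
  by_cases h2 : n ^ 3 = 1 ∨ n ^ 3 = x ∨ n ^ 3 = a ∨ n ^ 3 = x * a
  · have e3 : n * n ^ 3 * n⁻¹ = n ^ 3 := by group
    have n3 : n ^ 3 = 1 := by
      rcases h2 with h2 | h2 | h2 | h2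
      · exact h2
      · rw [h2, ea] at e3; exact absurd e3.symm xa
      · rw [h2, e, mul_eq_right] at e3; exact absurd e3 x1
      · rw [h2, e', left_eq_mul] at e3; exact absurd e3 a1
    have F := h.free xx x1 fx sx
    rcases h.dich hx F fx fa (h.sys.fix h.sp a ha) with h3 | h3
    · exact h.lemII H hx x1 fx F n3 ns h3
    · exact h.lemI'' hx x1 fx sx ha fa sa ax h3
  · refine h.lemI' hx x1 fx sx hS (five_le ⟨xS, mc rfl⟩ ⟨aS, mc ax⟩ ⟨S.pow_mem hn 3, mc ?_⟩ x1 a1 xa xa1 h2)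
    rw [← mul_inv_eq_iff_eq_mul, show n ^ 3 * x * (n ^ 3)⁻¹ = n * (n * (n * x * n⁻¹) * n⁻¹) * n⁻¹ by
      rw [pow_three]; group,
      ea, e, e']

/-- The subgroup attached to a special vector centralizes the normal element of order three. -/
theorem sign_eq_one (hq : QF σ q B) (he : Emb f ψ) (hs : Sys σ q B Sp) (sp : Sp s D R) (hr : r ∈ R) :
    sign (f r) = 1 := by
  by_contra hc
  obtain ⟨ρ, h1, h2, h3, h4, h5⟩ := he.exists_rho
  exact Bad.false ⟨hq, he, hs, h1, h2, h3, h4, h5, sp, hr, hc⟩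

end Cfsg.Lib.X18
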