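import Mathlib
import Cfsg.Agent.Lib.Misc.ExForm
import Cfsg.Agent.Lib.PGroup.Basic

set_option autoImplicit false

namespace Cfsg.Lib

open scoped commutatorElement

universe u

/-- The quadratic space attached to an extraspecial `2`-group, with the action of the normalizer. -/
theorem XS.exists_space {G : Type u} [Group G] [Finite G] {Q : Subgroup G} {z : G} (h : XS Q z) :
    ∃ (V : Type u) (_ : AddCommGroup V) (_ : Module (ZMod 2) V) (_ : Finite V) (π : G → V)
      (σ : Subgroup.normalizer (Q : Set G) →* Module.End (ZMod 2) V) (q : V → ZMod 2)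
      (B : V →ₗ[ZMod 2] V →ₗ[ZMod 2] ZMod 2),
      (∀ v, ∃ a ∈ Q, π a = v) ∧ (∀ a ∈ Q, ∀ b ∈ Q, π (a * b) = π a + π b) ∧
      (∀ a ∈ Q, π a = 0 ↔ a = 1 ∨ a = z) ∧
      (∀ n, ∀ a ∈ Q, σ n (π a) = π (n * a * (n : G)⁻¹)) ∧ (∀ a ∈ Q, q (π a) = h9qf a) ∧
      (∀ a ∈ Q, ∀ b ∈ Q, B (π a) (π b) = h9bf a b) ∧
      ∀ H ≤ Q, z ∈ H → Nat.card H = 2 * (π '' H).ncard := by
  classical
  have hker : ∀ a : Q, Abelianization.of a = 1 ↔ (a : G) = 1 ∨ (a : G) = z := fun a => by
    constructor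
    · intro e
      have h1 : commutator Q ≤ (Subgroup.zpowers z).subgroupOf Q := Subgroup.commutator_le.2 fun a _ b _ => by
        rw [Subgroup.mem_subgroupOf, h.toXC.mem_zpowers, commutatorElement_def]
        simp only [Subgroup.coe_mul, Subgroup.coe_inv]
        rcases h.toXC.conj a.2 b.2 with e | e <;> rw [e]
        · simp
        · rw [h.central _ b.2]; simp
      exact h.toXC.mem_zpowers.1 (h1 ((QuotientGroup.eq_one_iff a).1 e))
    · rintro (e | e)
      · rw [show a = 1 from Subtype.ext e, map_one]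
      · obtain ⟨b, hb, c, hc, hbc⟩ := h.nonab
        have e1 : (⟨b, hb⟩ : Q) * ⟨c, hc⟩ = ⟨c, hc⟩ * ⟨b, hb⟩ * a := Subtype.ext (by
          simpa [e] using h.toXC.of_ne hb hc hbc)
        have := congrArg Abelianization.of e1
        rwa [map_mul, map_mul, map_mul, mul_comm, left_eq_mul] at this
  let V := Additive (Abelianization Q)
  let p : Q → V := fun a => Additive.ofMul (Abelianization.of a)
  have ps : ∀ v, ∃ a, p a = v := fun v => QuotientGroup.mk_surjective v
  have pm : ∀ a b, p (a * b) = p a + p b := fun a b => rfl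
  have p0 : ∀ a, p a = 0 ↔ (a : G) = 1 ∨ (a : G) = z := hker
  have two : ∀ v : V, 2 • v = 0 := fun v => by
    obtain ⟨a, rfl⟩ := ps v
    rw [two_smul, ← pm, p0]
    exact h.sq_mem a a.2
  letI : Module (ZMod 2) V := AddCommGroup.zmodModule two
  have pe : ∀ a b : Q, p a = p b → (b : G) = a ∨ (b : G) = a * z := fun a b e => by
    have : p (a⁻¹ * b) = 0 := by
      rw [pm, ← e, ← pm, inv_mul_cancel, p0]; exact Or.inl rfl
    rw [p0, Subgroup.coe_mul, Subgroup.coe_inv, inv_mul_eq_iff_eq_mul, inv_mul_eq_iff_eq_mul, mul_one] at this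
    exact this
  choose o ho using ps
  have oq : ∀ a, h9qf (o (p a) : G) = h9qf (a : G) := fun a => by
    rcases pe a _ (ho _).symm with e | e <;> rw [e]
    rw [h.qf_mul a.2 h.mem, h.qf_z, h.toXC.bf_z a.2, add_zero, add_zero]
  have ob : ∀ a, ∀ b ∈ Q, h9bf (o (p a) : G) b = h9bf (a : G) b := fun a b hb => by
    rcases pe a _ (ho _).symm with e | e <;> rw [e]
    rw [h.toXC.mul_bf a.2 h.mem hb, h9bf_comm z, h.toXC.bf_z hb, add_zero]
  have ob2 : ∀ a b, h9bf (o (p a) : G) (o (p b)) = h9bf (a : G) b := fun a b => by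
    rw [ob _ _ (o _).2, h9bf_comm, ob _ _ a.2, h9bf_comm]
  let B0 : V →+ V →+ ZMod 2 := AddMonoidHom.mk' (fun u => AddMonoidHom.mk' (fun v => h9bf (o u : G) (o v))
    fun v w => by
      rw [← ho u, ← ho v, ← ho w, ← pm, ob2, ob2, ob2, Subgroup.coe_mul, h.toXC.bf_mul (o u).2 (o v).2 (o w).2])
    fun u v => AddMonoidHom.ext fun w => by
      show h9bf (o (u + v) : G) (o w) = h9bf (o u : G) (o w) + h9bf (o v : G) (o w)
      rw [← ho u, ← ho v, ← ho w, ← pm, ob2, ob2, ob2, Subgroup.coe_mul, h.toXC.mul_bf (o u).2 (o v).2 (o w).2]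
  let τ : Subgroup.normalizer (Q : Set G) → V →ₗ[ZMod 2] V := fun n =>
    (MonoidHom.toAdditive (Abelianization.map (Q.normalizerMonoidHom n).toMonoidHom)).toZModLinearMap 2
  have hτ : ∀ n a, τ n (p a) = p (Q.normalizerMonoidHom n a) := fun n a => rfl
  let σ : Subgroup.normalizer (Q : Set G) →* Module.End (ZMod 2) V :=
    { toFun := τ
      map_one' := LinearMap.ext fun v => by rw [← ho v, hτ, map_one]; rfl
      map_mul' := fun m n => LinearMap.ext fun v => by
        rw [← ho v, hτ, map_mul]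
        rfl }
  let π : G → V := fun a => if ha : a ∈ Q then p ⟨a, ha⟩ else 0
  have hπ : ∀ a (ha : a ∈ Q), π a = p ⟨a, ha⟩ := fun a ha => dif_pos ha
  refine ⟨V, inferInstance, inferInstance, inferInstance, π, σ, fun v => h9qf (o v : G),
    (((AddMonoidHom.toZModLinearMapEquiv 2).toAddMonoidHom.comp B0).toZModLinearMap 2),
    fun v => ⟨o v, (o v).2, by rw [hπ _ (o v).2, ho]⟩, fun a ha b hb => ?_, fun a ha => ?_, fun n a ha => ?_,
    fun a ha => ?_, fun a ha b hb => ?_, fun H hH hz => ?_⟩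
  · rw [hπ _ ha, hπ _ hb, hπ _ (Q.mul_mem ha hb), ← pm]; rfl
  · rw [hπ _ ha, p0]
  · rw [hπ _ ha, hπ _ (h9_conj_mem_of_mem_normalizer n.2 ha)]; rfl
  · rw [hπ _ ha]; exact oq _
  · rw [hπ _ ha, hπ _ hb]; exact ob2 _ _
  · have h1 := pg_card_map_mul_card_ker (Abelianization.of : Q →* _) (H.subgroupOf Q)
    have h2 : H.subgroupOf Q ⊓ (Abelianization.of : Q →* _).ker = (Subgroup.zpowers z).subgroupOf Q := by
      ext a
      rw [Subgroup.mem_inf, MonoidHom.mem_ker, hker, Subgroup.mem_subgroupOf, Subgroup.mem_subgroupOf,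
        h.toXC.mem_zpowers, and_iff_right_iff_imp]
      rintro (e | e) <;> rw [e]
      exacts [H.one_mem, hz]
    rw [h2, Nat.card_congr (Subgroup.subgroupOfEquivOfLe hH).toEquiv,
      Nat.card_congr (Subgroup.subgroupOfEquivOfLe h.toXC.zpowers_le).toEquiv, Nat.card_zpowers,
      h.toXC.orderOf] at h1
    rw [← h1, mul_comm, ← Nat.card_coe_set_eq]
    congr 1
    refine Nat.card_congr (Equiv.subtypeEquiv Additive.ofMul fun v => ?_)
    constructor
    · rintro ⟨a, ha, rfl⟩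
      exact ⟨a, ha, hπ _ a.2⟩
    · rintro ⟨a, ha, e⟩
      exact ⟨⟨a, hH ha⟩, ha, by rw [hπ _ (hH ha)] at e; exact e⟩

end Cfsg.Lib
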