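import Mathlib
import Cfsg.Agent.Lib.X18.Core
import Cfsg.Agent.Lib.X18.Space
import Cfsg.Agent.Lib.Misc.ExTransfer
import Cfsg.Agent.S1774

set_option autoImplicit false

namespace Cfsg.Lib.X18

open Subgroup Equiv Equiv.Perm

theorem sign_eq_one_of_mem {G : Type*} [Group G] [Finite G] {z : G} {M Q : Subgroup G}
    (hM : ∀ m, m ∈ M ↔ m * z = z * m) (N : Subgroup M) [N.Normal] (hN : ∀ m : M, m ∈ N ↔ (m : G) ∈ Q)
    (hX : XS Q z) (h2 : M ≤ normalizer (Q : Set G)) (hcent : centralizer (Q : Set G) ≤ Q)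
    (hcard : Nat.card Q = 2 ^ 9) {f : M ⧸ N →* Perm (Fin 3)} {ψ : M ⧸ N →* Perm (Fin 6)} (he : Emb f ψ)
    {g : G} (hg : g * z * g⁻¹ ∈ Q) (hne : g * z * g⁻¹ ≠ z) (m : M) (hm : g⁻¹ * m * g ∈ Q) :
    sign (f m) = 1 := by
  obtain ⟨V, _, _, _, π, σ0, q, B, ps, pm, p0, pσ, pq, pB, pc⟩ := hX.exists_space
  have h1 : Q ≤ M := fun a ha => (hM a).2 (hX.central a ha)
  have p1 : π 1 = 0 := (p0 1 Q.one_mem).2 (Or.inl rfl)
  have pz : π z = 0 := (p0 z hX.mem).2 (Or.inr rfl)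
  have pi : ∀ a ∈ Q, π a⁻¹ = π a := fun a ha => by
    rw [← add_eq_zero', ← pm _ (Q.inv_mem ha) _ ha, inv_mul_cancel, p1]
  have pe : ∀ a ∈ Q, ∀ b ∈ Q, π a = π b → b = a ∨ b = a * z := fun a ha b hb e => by
    have := (p0 _ (Q.mul_mem (Q.inv_mem ha) hb)).1 (by rw [pm _ (Q.inv_mem ha) _ hb, pi a ha, e, vv])
    rwa [inv_mul_eq_iff_eq_mul, inv_mul_eq_iff_eq_mul, mul_one] at this
  have cj : ∀ m ∈ M, ∀ a ∈ Q, m * a * m⁻¹ ∈ Q := fun m hm a ha => h9_conj_mem_of_mem_normalizer (h2 hm) ha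
  have cj' : ∀ m ∈ M, ∀ a, m * a * m⁻¹ ∈ Q → a ∈ Q := fun m hm a ha => by
    rw [show a = m⁻¹ * (m * a * m⁻¹) * m by group]
    exact h9_conj_mem_of_mem_normalizer' (h2 hm) ha
  let σ : M ⧸ N →* Module.End (ZMod 2) V := QuotientGroup.lift N (σ0.comp (inclusion h2)) fun n hn => by
    refine LinearMap.ext fun v => ?_
    obtain ⟨a, ha, rfl⟩ := ps v
    refine (pσ _ a ha).trans ?_
    have hn' := (hN n).1 hn
    show π (n * a * (n : G)⁻¹) = π a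
    rw [pm _ (Q.mul_mem hn' ha) _ (Q.inv_mem hn'), pm _ hn' _ ha, pi _ hn', add_right_comm, vv, zero_add]
  have hσ : ∀ (m : M), ∀ a ∈ Q, σ m (π a) = π (m * a * (m : G)⁻¹) := fun m a ha => pσ _ a ha
  have hq : QF σ q B := by
    refine ⟨fun u v => ?_, fun u hu => ?_, fun γ v => ?_, fun γ hγ => ?_, ?_⟩
    · obtain ⟨a, ha, rfl⟩ := ps u
      obtain ⟨b, hb, rfl⟩ := ps v
      rw [← pm a ha b hb, pq _ (Q.mul_mem ha hb), pq a ha, pq b hb, pB a ha b hb, hX.qf_mul ha hb]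
    · obtain ⟨a, ha, rfl⟩ := ps u
      exact (p0 a ha).2 (hX.center a ha fun b hb => h9bf_eq_zero.1 (by rw [← pB a ha b hb, hu]))
    · obtain ⟨a, ha, rfl⟩ := ps v
      obtain ⟨m, rfl⟩ := QuotientGroup.mk_surjective γ
      rw [hσ m a ha, pq _ (cj m m.2 a ha), pq a ha, h9qf_conj]
    · obtain ⟨m, rfl⟩ := QuotientGroup.mk_surjective γ
      obtain ⟨y, hy, h3⟩ := hX.exists_inner ((hM m).1 m.2) fun a ha =>
        pe a ha _ (cj m m.2 a ha) (by rw [← hσ m a ha, hγ])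
      rw [QuotientGroup.eq_one_iff, hN]
      exact (Q.mul_mem_cancel_left (Q.inv_mem hy)).1 (hcent fun a ha => (h3 a ha).symm)
    · have h3 := pc Q le_rfl hX.mem
      rw [hcard, show π '' Q = Set.univ from Set.eq_univ_of_forall ps, Set.ncard_univ,
        Module.natCard_eq_pow_finrank (K := ZMod 2), Nat.card_zmod, ← pow_succ'] at h3
      have := Nat.pow_right_injective (le_refl 2) h3
      omega
  let Qc : G → Subgroup G := fun g => Q.map (MulAut.conj g).toMonoidHom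
  have mQ : ∀ g a, a ∈ Qc g ↔ g⁻¹ * a * g ∈ Q := fun g a => h9_mem_conj_iff Q g a
  have hXc : ∀ g, XS (Qc g) (g * z * g⁻¹) := hX.conj_XS
  have sym : ∀ g, g * z * g⁻¹ ∈ Q → g * z * g⁻¹ ≠ z → z ∈ Qc g := fun g h3 h4 =>
    (Cfsg.Agent.S1774.aux hX.toXC hX.isPGroup (fun c hc => h2 ((hM c).2 hc))
      (fun x _ hx => hcent fun a ha => (hx a ha).symm) (fun x hx hc _ => hX.center x hx hc) g h4 h3).1
  let Dg : G → Submodule (ZMod 2) V := fun g =>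
    { carrier := π '' (Q ⊓ Qc g : Subgroup G)
      add_mem' := by
        rintro _ _ ⟨a, ha, rfl⟩ ⟨b, hb, rfl⟩
        exact ⟨a * b, mul_mem ha hb, pm a ha.1 b hb.1⟩
      zero_mem' := ⟨1, one_mem _, p1⟩
      smul_mem' := fun c v hv => by
        rcases z2 c with rfl | rfl
        · exact ⟨1, one_mem _, by rw [zero_smul, p1]⟩
        · rwa [one_smul] }
  have mD : ∀ g v, v ∈ Dg g ↔ ∃ a, (a ∈ Q ∧ a ∈ Qc g) ∧ π a = v := fun g v => Iff.rfl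
  let Rg : G → Subgroup (M ⧸ N) := fun g => ((Qc g).subgroupOf M).map (QuotientGroup.mk' N)
  have mR : ∀ g r, r ∈ Rg g ↔ ∃ m : M, (m : G) ∈ Qc g ∧ (m : M ⧸ N) = r := fun g r => Iff.rfl
  have cQ : ∀ m g a : G, m * a * m⁻¹ ∈ Qc (m * g) ↔ a ∈ Qc g := fun m g a => by
    rw [mQ, mQ, show (m * g)⁻¹ * (m * a * m⁻¹) * (m * g) = g⁻¹ * a * g by group]
  have E1 : ∀ (m : M) g v, σ m v ∈ Dg (m * g) ↔ v ∈ Dg g := fun m g v => by
    rw [mD, mD]
    constructor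
    · rintro ⟨a, ⟨ha, ha'⟩, e⟩
      obtain ⟨b, rfl⟩ : ∃ b, (m : G) * b * (m : G)⁻¹ = a := ⟨(m : G)⁻¹ * a * m, by group⟩
      have hb := cj' m m.2 b ha
      exact ⟨b, ⟨hb, (cQ _ _ _).1 ha'⟩, σinj σ m (by rw [hσ m b hb, e])⟩
    · rintro ⟨a, ⟨ha, ha'⟩, rfl⟩
      exact ⟨_, ⟨cj m m.2 a ha, (cQ _ _ _).2 ha'⟩, (hσ m a ha).symm⟩
  have E2 : ∀ (m : M) g r, (m : M ⧸ N) * r * (m : M ⧸ N)⁻¹ ∈ Rg (m * g) ↔ r ∈ Rg g := fun m g r => by
    rw [mR, mR]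
    constructor
    · rintro ⟨a, ha, e⟩
      obtain ⟨b, rfl⟩ : ∃ b, m * b * m⁻¹ = a := ⟨m⁻¹ * a * m, by group⟩
      exact ⟨b, (cQ _ _ _).1 ha, by simpa using e⟩
    · rintro ⟨a, ha, rfl⟩
      exact ⟨m * a * m⁻¹, (cQ _ _ _).2 ha, rfl⟩
  have E3 : ∀ g, ∀ c ∈ M, Qc (g * c) = Qc g := fun g c hc => by
    ext a
    rw [mQ, mQ]
    refine ⟨fun h => ?_, fun h => cj' c hc _ ?_⟩
    · have := cj c hc _ h
      rwa [show c * ((g * c)⁻¹ * a * (g * c)) * c⁻¹ = g⁻¹ * a * g by group] at this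
    · rwa [show c * ((g * c)⁻¹ * a * (g * c)) * c⁻¹ = g⁻¹ * a * g by group]
  have cM : ∀ H ≤ M, Nat.card ((H.subgroupOf M).map (QuotientGroup.mk' N)) * Nat.card (H ⊓ Q : Subgroup G) =
      Nat.card H := fun H hH => by
    have := pg_card_map_mul_card_ker (QuotientGroup.mk' N) (H.subgroupOf M)
    rwa [QuotientGroup.ker_mk', show H.subgroupOf M ⊓ N = (H ⊓ Q).subgroupOf M from Subgroup.ext fun a => by
      rw [mem_inf, hN, mem_subgroupOf, mem_subgroupOf, mem_inf],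
      Nat.card_congr (subgroupOfEquivOfLe hH).toEquiv,
      Nat.card_congr (subgroupOfEquivOfLe (inf_le_left.trans hH)).toEquiv] at this
  have cD : ∀ g, z ∈ Qc g → Nat.card (Q ⊓ Qc g : Subgroup G) = 2 * Nat.card (Dg g) := fun g hz =>
    pc _ inf_le_left ⟨hX.mem, hz⟩
  refine sign_eq_one (Sp := fun s D R => ∃ g, g * z * g⁻¹ ∈ Q ∧ g * z * g⁻¹ ≠ z ∧ s = π (g * z * g⁻¹) ∧
    D = Dg g ∧ R = Rg g) hq he ⟨?_, ?_, ?_, ?_, ?_, ?_, ?_, ?_, ?_, ?_, ?_⟩ ⟨g, hg, hne, rfl, rfl, rfl⟩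
    ((mR g _).2 ⟨m, (mQ _ _).2 hm, rfl⟩)
  all_goals clear hm m hne hg g
  · rintro _ _ _ ⟨g, hg, hne, rfl, rfl, rfl⟩ γ
    obtain ⟨m, rfl⟩ := QuotientGroup.mk_surjective γ
    have e : m * g * z * ((m : G) * g)⁻¹ = m * (g * z * g⁻¹) * (m : G)⁻¹ := by group
    refine ⟨_, _, ⟨m * g, e ▸ cj m m.2 _ hg, fun h => hne ?_, by rw [e, hσ m _ hg], rfl, rfl⟩, E1 m g, E2 m g⟩
    rw [e, mul_inv_eq_iff_eq_mul, ← (hM m).1 m.2, mul_right_inj] at h
    exact h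
  · rintro _ _ _ _ _ ⟨g, hg, hne, rfl, rfl, rfl⟩ ⟨g', hg', hne', e, rfl, rfl⟩
    obtain ⟨a, ha, e1⟩ : ∃ a ∈ Q, a * (g * z * g⁻¹) * a⁻¹ = g' * z * g'⁻¹ := by
      rcases pe _ hg _ hg' e with e | e
      · exact ⟨1, Q.one_mem, by simp [e]⟩
      by_contra hc
      push Not at hc
      rcases hX.center _ hg fun b hb => by
        by_contra h3
        exact hc b hb (by rw [e, hX.toXC.conj_of_ne hb hg (Ne.symm h3)]) with h3 | h3
      · exact (hXc g).ne_one h3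
      · exact hne h3
    have hc : (a * g)⁻¹ * g' ∈ M := (hM _).2 (by
      rw [show (a * g)⁻¹ * g' * z = (a * g)⁻¹ * (g' * z * g'⁻¹) * g' by group, ← e1]; group)
    have e2 : Qc g' = Qc (a * g) := by rw [← E3 (a * g) _ hc]; congr 1; group
    have e3 : ((⟨a, h1 ha⟩ : M) : M ⧸ N) = 1 := (QuotientGroup.eq_one_iff _).2 ((hN _).2 ha)
    constructor
    · ext v
      rw [← E1 ⟨a, h1 ha⟩, e3, σ1, mD, mD, e2]
    · ext v
      rw [← E2 ⟨a, h1 ha⟩, e3, one_mul, inv_one, mul_one, mR, mR, e2]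
  · rintro _ _ _ ⟨g, hg, hne, rfl, rfl, rfl⟩ e
    exact ((p0 _ hg).1 e).elim (hXc g).ne_one hne
  · rintro _ _ _ ⟨g, hg, hne, rfl, rfl, rfl⟩
    exact ⟨_, ⟨hg, (hXc g).mem⟩, rfl⟩
  · rintro _ _ _ ⟨g, hg, hne, rfl, rfl, rfl⟩ _ ⟨a, ⟨ha, ha'⟩, rfl⟩
    rw [pq a ha, h9qf_eq_zero]
    exact (hX.sq_mem a ha).elim id fun e => ((hXc g).sq_mem a ha').resolve_right fun e' => hne (e'.symm.trans e)
  · rintro _ _ _ ⟨g, hg, hne, rfl, rfl, rfl⟩ _ ⟨a, ha, rfl⟩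
    rw [← map_mul, QuotientGroup.mk'_apply, QuotientGroup.eq_one_iff, hN, Subgroup.coe_mul]
    rcases (hXc g).sq_mem a ha with e | e <;> rw [e]
    exacts [Q.one_mem, hg]
  · rintro _ _ _ ⟨g, hg, hne, rfl, rfl, rfl⟩
    have hz := sym g hg hne
    have h3 := cM (Qc g ⊓ M) inf_le_right
    rw [inf_subgroupOf_right, inf_assoc, inf_eq_right.2 h1, inf_comm, cD g hz] at h3
    have h4 := (hXc g).toXC.relIndex_centralizer hz (by
      by_contra hc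
      push Not at hc
      exact ((hXc g).center z hz hc).elim hX.ne_one hne.symm)
    rw [show centralizer {z} = M from Subgroup.ext fun a => by rw [hM, mem_centralizer_singleton_iff],
      ← inf_relIndex_right, inf_comm] at h4
    have h5 := relIndex_mul_card (inf_le_left : Qc g ⊓ M ≤ Qc g)
    rw [h4, card_map_conj, hcard, ← h3] at h5
    change 2 * (Nat.card (Rg g) * _) = _ at h5
    nlinarith
  · rintro _ _ _ ⟨g, hg, hne, rfl, rfl, rfl⟩ _ ⟨a, ha, rfl⟩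
    rw [QuotientGroup.mk'_apply, hσ a _ hg, (hXc g).central a ha, mul_inv_cancel_right]
  · rintro _ _ _ ⟨g, hg, hne, rfl, rfl, rfl⟩ _ ⟨m, hm, rfl⟩ v hv
    obtain ⟨a, ha, rfl⟩ := ps v
    rw [pB _ hg a ha, h9bf_eq_zero] at hv
    rw [QuotientGroup.mk'_apply, hσ m a ha, ← pi a ha, ← pm _ (cj m m.2 a ha) _ (Q.inv_mem ha)]
    refine ⟨_, ⟨Q.mul_mem (cj m m.2 a ha) (Q.inv_mem ha), ?_⟩, rfl⟩
    have hc : g⁻¹ * a * g ∈ M := (hM _).2 (by
      rw [show g⁻¹ * a * g * z = g⁻¹ * (a * (g * z * g⁻¹)) * g by group, ← hv]; group)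
    rw [show m * a * (m : G)⁻¹ * a⁻¹ = m * (a * (m : G)⁻¹ * a⁻¹) by group]
    refine (Qc g).mul_mem hm ?_
    rw [← E3 g _ hc, show g * (g⁻¹ * a * g) = a * g by group, cQ]
    exact (Qc g).inv_mem hm
  · rintro _ _ _ ⟨g, hg, hne, rfl, rfl, rfl⟩ _ ⟨m, hm, rfl⟩ _ ⟨a, ⟨ha, ha'⟩, rfl⟩
    rw [QuotientGroup.mk'_apply, hσ m a ha]
    refine ((hXc g).toXC.conj (a := m) hm ha').imp (fun e => ?_) fun e => ?_
    · rw [e, vv]
    · rw [e, pm a ha _ hg, add_right_comm, vv, zero_add]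
  · rintro _ _ _ _ _ _ ⟨g, hg, hne, rfl, rfl, rfl⟩ ⟨g', hg', hne', rfl, rfl, rfl⟩ ⟨a, ⟨ha, ha'⟩, e⟩ hn
    have hz := sym g hg hne
    have hz' := sym g' hg' hne'
    have h3 : g' * z * g'⁻¹ ∈ Qc g := by
      rcases pe a ha _ hg' e with e | e <;> rw [e]
      exacts [ha', (Qc g).mul_mem ha' hz]
    have h4 : g' * z * g'⁻¹ ≠ g * z * g⁻¹ := fun e => hn (by rw [e])
    have e1 : g⁻¹ * g' * z * (g⁻¹ * g')⁻¹ = g⁻¹ * (g' * z * g'⁻¹) * g := by group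
    have h5 : g⁻¹ * g' * z * (g⁻¹ * g')⁻¹ ∈ Q := e1 ▸ (mQ _ _).1 h3
    have h6 : g⁻¹ * g' * z * (g⁻¹ * g')⁻¹ ≠ z := fun e => h4 (by
      rw [e1] at e
      rw [show g' * z * g'⁻¹ = g * (g⁻¹ * (g' * z * g'⁻¹) * g) * g⁻¹ by group, e])
    refine ⟨_, _, _, ⟨g⁻¹ * g', h5, h6, rfl, rfl, rfl⟩, ?_⟩
    have h7 := cD _ (sym _ h5 h6)
    have h8 : (Q ⊓ Qc (g⁻¹ * g')).map (MulAut.conj g).toMonoidHom = Qc g ⊓ Qc g' := by
      ext x
      rw [h9_mem_conj_iff, mem_inf, mem_inf, mQ, mQ, mQ,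
        show (g⁻¹ * g')⁻¹ * (g⁻¹ * x * g) * (g⁻¹ * g') = g'⁻¹ * x * g' by group]
    rw [← card_map_conj _ g, h8] at h7
    have h9 := cM (Qc g ⊓ Qc g') fun x hx => (hM x).2 (by
      by_contra hc
      exact h4 (mul_left_cancel (((hXc g').toXC.of_ne hx.2 hz' hc).symm.trans ((hXc g).toXC.of_ne hx.1 hz hc))))
    have h10 := pc (Qc g ⊓ Qc g' ⊓ Q) inf_le_right ⟨⟨hz, hz'⟩, hX.mem⟩
    have h11 : (π '' (Qc g ⊓ Qc g' ⊓ Q : Subgroup G)).ncard ≤ Nat.card (Dg g ⊓ Dg g' : Submodule (ZMod 2) V) :=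
      Set.ncard_le_ncard (s := π '' (Qc g ⊓ Qc g' ⊓ Q : Subgroup G))
        (t := (Dg g ⊓ Dg g' : Submodule (ZMod 2) V)) (by
        rintro _ ⟨x, hx, rfl⟩
        exact ⟨⟨x, ⟨hx.2, hx.1.1⟩, rfl⟩, ⟨x, ⟨hx.2, hx.1.2⟩, rfl⟩⟩)
    have h12 : Nat.card (((Qc g ⊓ Qc g').subgroupOf M).map (QuotientGroup.mk' N)) ≤
        Nat.card (Rg g ⊓ Rg g' : Subgroup (M ⧸ N)) := card_le_of_le (by
      rintro _ ⟨x, hx, rfl⟩
      exact ⟨⟨x, hx.1, rfl⟩, ⟨x, hx.2, rfl⟩⟩)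
    rw [h7, h10] at h9
    have := Nat.mul_le_mul h11 h12
    nlinarith

theorem no_group {G : Type*} [Group G] [Finite G] (hres : pResidual 2 G = ⊤) {z : G} (hz : orderOf z = 2)
    (N : Subgroup (centralizer ({z} : Set G))) [N.Normal] (hN : N = pCore 2 (centralizer ({z} : Set G)))
    (hQ : IsExtraspecial 2 N) (hQ9 : Nat.card N = 2 ^ 9)
    (hCQ : centralizer (N : Set (centralizer ({z} : Set G))) ≤ N)
    {f : centralizer ({z} : Set G) ⧸ N →* Perm (Fin 3)} {ψ : centralizer ({z} : Set G) ⧸ N →* Perm (Fin 6)}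
    (he : Emb f ψ) (hodd : ∃ γ, sign (f γ) ≠ 1) : False := by
  obtain ⟨E, hE⟩ : ∃ E, E = N.map (centralizer ({z} : Set G)).subtype := ⟨_, rfl⟩
  have hNE : ∀ m : centralizer ({z} : Set G), m ∈ N ↔ (m : G) ∈ E := fun m => by
    rw [hE]; exact (mem_map_iff_mem (subtype_injective _)).symm
  have e : N ≃* E := hE ▸ N.equivMapOfInjective _ (subtype_injective _)
  have hzz : z ∈ centralizer ({z} : Set G) := mem_centralizer_singleton_iff.2 rfl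
  have hzE : z ∈ E := (hNE ⟨z, hzz⟩).1 (hCQ fun a _ => Subtype.ext (mem_centralizer_singleton_iff.1 a.2))
  have hcent : centralizer (E : Set G) ≤ E := fun c hc =>
    (hNE ⟨c, mem_centralizer_singleton_iff.2 (hc z hzE).symm⟩).1
      (hCQ fun a ha => Subtype.ext (hc a ((hNE a).1 ha)))
  have hcard : Nat.card E = 2 ^ 9 := by rw [← Nat.card_congr e.toEquiv, hQ9]
  obtain ⟨hX, h1, h2, h3⟩ := h9_large_setup hz (hE.trans (by rw [hN])) (h9_isExtraspecial_of_equiv e hQ) hcent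
  obtain ⟨P, hP⟩ := exists_isSylowIn 2 (centralizer ({z} : Set G))
  let χ := (sign.comp f).comp (QuotientGroup.mk' N)
  have hKi : (χ.ker.map (centralizer ({z} : Set G)).subtype).relIndex (centralizer ({z} : Set G)) = 2 := by
    rw [relIndex, subgroupOf, comap_map_eq_self_of_injective (subtype_injective _), index_ker]
    obtain ⟨γ, hγ⟩ := hodd
    obtain ⟨m, rfl⟩ := QuotientGroup.mk_surjective γ
    rw [show χ.range = ⊤ from eq_top_iff.2 fun u _ => ?_, card_top, Nat.card_eq_fintype_card,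
      Fintype.card_units_int]
    rcases Int.units_eq_one_or u with rfl | rfl
    · exact one_mem _
    · exact ⟨m, (Int.units_eq_one_or _).resolve_left hγ⟩
  refine h9_not_sylow_le hP hKi (h9_extraspecial_transfer hres hKi hX hP.isPGroup
    (hP.le_of_normalizes hX.isPGroup h1 (hP.le.trans h2)) hP.le (hP.le.trans h2) (r := 2) (by norm_num)
    (Or.inl le_rfl) fun t ht htz => ?_)
  obtain ⟨k, hk, hk1, hk2, hk3⟩ := h3 t ht htz
  rw [hk]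
  rcases hk1.eq_or_lt with rfl | hk1
  · have hne : t * z * t⁻¹ ≠ z := fun h => ht (mem_centralizer_singleton_iff.2 (mul_inv_eq_iff_eq_mul.1 h))
    have h4 := (Cfsg.Agent.S1774.aux hX.toXC hX.isPGroup
      (fun c hc => h2 (mem_centralizer_singleton_iff.2 hc))
      (fun x _ hx => hcent fun a ha => (hx a ha).symm) (fun x hx hc _ => hX.center x hx hc) t hne (hk2 rfl)).1
    rw [h9_mem_conj_iff] at h4
    refine Or.inl ⟨fun a ha haH => ⟨⟨_, haH⟩, ?_, rfl⟩, le_rfl⟩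
    refine sign_eq_one_of_mem (fun _ => mem_centralizer_singleton_iff) N hNE hX h2 hcent hcard he (g := t⁻¹)
      (by rwa [inv_inv]) (fun h => hne ?_) ⟨_, haH⟩ ?_
    · conv_lhs => rw [← h]
      group
    · rwa [show t⁻¹⁻¹ * (t⁻¹ * a * t) * t⁻¹ = a by group]
  · right
    by_cases h : t⁻¹ * z * t ∈ χ.ker.map (centralizer ({z} : Set G)).subtype
    · exact Or.inl ⟨h, Nat.pow_le_pow_right (n := 2) (i := 2) (by norm_num) hk1⟩
    · right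
      have h4 := hk3 _ hKi h
      rw [hcard, ← pow_mul, ← pow_succ', Nat.pow_le_pow_iff_right (by norm_num)] at h4
      exact Nat.pow_le_pow_right (n := 2) (i := 3) (by norm_num) (by omega)

end Cfsg.Lib.X18
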